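import Cfsg.Agent.Lib.CITApp.Classes
import Cfsg.Agent.Lib.Suzuki.Summary
import Cfsg.Agent.Lib.Suzuki.Sylow
import Mathlib.LinearAlgebra.Matrix.ProjectiveSpecialLinearGroup
import Mathlib.LinearAlgebra.Matrix.GeneralLinearGroup.Card
import Mathlib.FieldTheory.Finite.Basic

/-!
# Small configurations inside `PSL₂(7)`, `PSL₃(4)`, `PSL₂(9)` and the Suzuki groups
-/

set_option autoImplicit false
set_option linter.style.haveILetI false
set_option linter.unusedSectionVars false

namespace CfsgLib.ThreeOrd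

open Matrix

/-- An element of order three acting as squaring on an element of order seven. -/
def SevenThree (T : Type*) [Group T] : Prop :=
  ∃ x y : T, orderOf x = 7 ∧ orderOf y = 3 ∧ y * x * y⁻¹ = x ^ 2

/-- An element of order four whose square is fixed-point-free on a nontrivial odd abelian group
normalised by it. -/
def FourFpf (T : Type*) [Group T] : Prop :=
  ∃ (K : Subgroup T) (a : T), K ≠ ⊥ ∧ Odd (Nat.card K) ∧ (∀ k ∈ K, ∀ l ∈ K, k * l = l * k) ∧
    orderOf a = 4 ∧ (∀ k ∈ K, a * k * a⁻¹ ∈ K) ∧ ∀ k ∈ K, a ^ 2 * k = k * a ^ 2 → k = 1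

theorem sevenThree_quotient_center {H : Type*} [Group H] {x y : H} (hx : x ^ 7 = 1)
    (hy : y ^ 3 = 1) (hxy : y * x * y⁻¹ = x ^ 2) (hx1 : x ≠ 1) :
    SevenThree (H ⧸ Subgroup.center H) := by
  haveI := Fact.mk Nat.prime_three
  haveI : Fact (Nat.Prime 7) := ⟨by norm_num⟩
  have hne : x ^ 2 ≠ x := fun e => hx1 (by rwa [pow_two, mul_eq_left] at e)
  refine ⟨QuotientGroup.mk' _ x, QuotientGroup.mk' _ y, orderOf_eq_prime ?_ ?_,
    orderOf_eq_prime ?_ ?_, ?_⟩
  · rw [← map_pow, hx, map_one]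
  · rw [QuotientGroup.mk'_apply, Ne, QuotientGroup.eq_one_iff]
    intro hc
    rw [Subgroup.mem_center_iff] at hc
    exact hne (by rw [← hxy, hc y, mul_inv_cancel_right])
  · rw [← map_pow, hy, map_one]
  · rw [QuotientGroup.mk'_apply, Ne, QuotientGroup.eq_one_iff]
    intro hc
    rw [Subgroup.mem_center_iff] at hc
    exact hne (by rw [← hxy, ← hc x, mul_inv_cancel_right])
  · rw [← map_inv, ← map_mul, ← map_mul, hxy, map_pow]

variable {F : Type*} [Field F] [Fintype F]

theorem charP_of_card {p n : ℕ} (hp : p.Prime) (hn : n ≠ 0) (h : Fintype.card F = p ^ n) :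
    CharP F p := by
  obtain ⟨q, hq⟩ := CharP.exists F
  obtain ⟨k, hqp, hk⟩ := FiniteField.card F q
  have hd : q ∣ p ^ n := by
    rw [← h, hk]
    exact dvd_pow_self q (by exact_mod_cast k.pos.ne')
  obtain rfl : q = p := (Nat.prime_dvd_prime_iff_eq hqp hp).1 (hqp.dvd_of_dvd_pow hd)
  exact hq

theorem map_injective_sl {n : ℕ} {R S : Type*} [CommRing R] [CommRing S] {f : R →+* S}
    (hf : Function.Injective f) :
    Function.Injective (Matrix.SpecialLinearGroup.map (n := Fin n) f) := by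
  intro a b hab
  ext i j
  exact hf (congrFun (congrFun (congrArg Subtype.val hab) i) j)

theorem pair_sl_two : ∃ x y : Matrix.SpecialLinearGroup (Fin 2) (ZMod 7),
    x ^ 7 = 1 ∧ y ^ 3 = 1 ∧ y * x * y⁻¹ = x ^ 2 ∧ x ≠ 1 :=
  ⟨⟨!![1, 1; 0, 1], by decide +kernel⟩, ⟨!![4, 0; 0, 2], by decide +kernel⟩, by decide +kernel,
    by decide +kernel, by decide +kernel,
    fun e => absurd (congrArg Subtype.val e) (by decide +kernel)⟩

theorem pair_sl_three : ∃ x y : Matrix.SpecialLinearGroup (Fin 3) (ZMod 2),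
    x ^ 7 = 1 ∧ y ^ 3 = 1 ∧ y * x * y⁻¹ = x ^ 2 ∧ x ≠ 1 :=
  ⟨⟨!![0, 0, 1; 1, 0, 1; 0, 1, 0], by decide +kernel⟩,
    ⟨!![1, 0, 0; 0, 0, 1; 0, 1, 1], by decide +kernel⟩, by decide +kernel,
    by decide +kernel, by decide +kernel, fun e => absurd (congrArg Subtype.val e) (by decide +kernel)⟩

theorem sevenThree_psl_two (hF : Fintype.card F = 7) :
    SevenThree (ProjectiveSpecialLinearGroup (Fin 2) F) := by
  haveI := charP_of_card (F := F) (p := 7) (n := 1) (by norm_num) one_ne_zero (by rw [hF]; norm_num)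
  haveI : Fact (Nat.Prime 7) := ⟨by norm_num⟩
  obtain ⟨x, y, hx, hy, hxy, hx1⟩ := pair_sl_two
  let φ := Matrix.SpecialLinearGroup.map (n := Fin 2) (ZMod.castHom (dvd_refl 7) F)
  refine sevenThree_quotient_center (x := φ x) (y := φ y) (by rw [← map_pow, hx, map_one])
    (by rw [← map_pow, hy, map_one]) (by rw [← map_inv, ← map_mul, ← map_mul, hxy, map_pow]) ?_
  exact fun e => hx1 (map_injective_sl (RingHom.injective _) (e.trans (map_one φ).symm))

theorem sevenThree_psl_three (hF : Fintype.card F = 4) :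
    SevenThree (ProjectiveSpecialLinearGroup (Fin 3) F) ∧
      ¬ 7 ^ 2 ∣ Nat.card (ProjectiveSpecialLinearGroup (Fin 3) F) := by
  haveI := charP_of_card (F := F) (p := 2) (n := 2) Nat.prime_two two_ne_zero (by rw [hF]; norm_num)
  haveI : Fact (Nat.Prime 2) := ⟨Nat.prime_two⟩
  constructor
  · obtain ⟨x, y, hx, hy, hxy, hx1⟩ := pair_sl_three
    let φ := Matrix.SpecialLinearGroup.map (n := Fin 3) (ZMod.castHom (dvd_refl 2) F)
    refine sevenThree_quotient_center (x := φ x) (y := φ y) (by rw [← map_pow, hx, map_one])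
      (by rw [← map_pow, hy, map_one]) (by rw [← map_inv, ← map_mul, ← map_mul, hxy, map_pow]) ?_
    exact fun e => hx1 (map_injective_sl (RingHom.injective _) (e.trans (map_one φ).symm))
  · intro h
    have h1 : Nat.card (ProjectiveSpecialLinearGroup (Fin 3) F) ∣
        Nat.card (Matrix.SpecialLinearGroup (Fin 3) F) := Subgroup.card_quotient_dvd_card _
    have h2 : Nat.card (Matrix.SpecialLinearGroup (Fin 3) F) ∣ Nat.card (GL (Fin 3) F) :=
      Subgroup.card_dvd_of_injective Matrix.SpecialLinearGroup.toGL Matrix.SpecialLinearGroup.toGL_injective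
    have h3 := h.trans (h1.trans h2)
    rw [Matrix.card_GL_field, hF] at h3
    simp [Fin.prod_univ_three] at h3

/-- The upper unipotent matrix. -/
def uni (b : F) : Matrix.SpecialLinearGroup (Fin 2) F := ⟨!![1, b; 0, 1], by simp [Matrix.det_fin_two]⟩

/-- The diagonal matrix. -/
def dia (z : Fˣ) : Matrix.SpecialLinearGroup (Fin 2) F :=
  ⟨!![(z : F), 0; 0, ((z⁻¹ : Fˣ) : F)], by simp [Matrix.det_fin_two]⟩

theorem uni_mul (b c : F) : uni b * uni c = uni (b + c) := by
  apply Subtype.ext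
  rw [Matrix.SpecialLinearGroup.coe_mul]
  ext i j
  fin_cases i <;> fin_cases j <;> simp [uni, Matrix.mul_apply, Fin.sum_univ_two, add_comm]

theorem dia_conj (z : Fˣ) (b : F) : dia z * uni b = uni ((z : F) * z * b) * dia z := by
  apply Subtype.ext
  rw [Matrix.SpecialLinearGroup.coe_mul, Matrix.SpecialLinearGroup.coe_mul]
  ext i j
  fin_cases i <;> fin_cases j <;> simp [uni, dia, Matrix.mul_apply, Fin.sum_univ_two] <;> field_simp

theorem dia_mul (z w : Fˣ) : dia z * dia w = dia (z * w) := by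
  apply Subtype.ext
  rw [Matrix.SpecialLinearGroup.coe_mul]
  ext i j
  fin_cases i <;> fin_cases j <;> simp [dia, Matrix.mul_apply, Fin.sum_univ_two, mul_comm]

/-- The upper unipotent matrices, as a homomorphism into `PSL₂`. -/
noncomputable def uniHom : Multiplicative F →* ProjectiveSpecialLinearGroup (Fin 2) F where
  toFun b := QuotientGroup.mk' _ (uni b.toAdd)
  map_one' := by
    rw [← map_one (QuotientGroup.mk' (Subgroup.center (Matrix.SpecialLinearGroup (Fin 2) F)))]
    refine congrArg _ ?_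
    ext i j
    fin_cases i <;> fin_cases j <;> simp [uni]
  map_mul' b c := by rw [← map_mul, uni_mul]; rfl

theorem eq_zero_of_uni_central {b : F}
    (h : uni b ∈ Subgroup.center (Matrix.SpecialLinearGroup (Fin 2) F)) : b = 0 := by
  obtain ⟨r, -, hr⟩ := Matrix.SpecialLinearGroup.mem_center_iff.mp h
  simpa [uni] using (congrFun (congrFun hr 0) 1).symm

theorem fourFpf_psl_two (hF : Fintype.card F = 9) :
    FourFpf (ProjectiveSpecialLinearGroup (Fin 2) F) := by
  haveI := charP_of_card (F := F) (p := 3) (n := 2) Nat.prime_three two_ne_zero (by rw [hF]; norm_num)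
  haveI : Fact (Nat.Prime 2) := ⟨Nat.prime_two⟩
  obtain ⟨z, hz⟩ := IsCyclic.exists_ofOrder_eq_natCard (α := Fˣ)
  rw [Nat.card_units, Nat.card_eq_fintype_card, hF] at hz
  norm_num at hz
  have hz4 : (z : F) ^ 4 = -1 := by
    have h8 : (z : F) ^ 4 * (z : F) ^ 4 = 1 := by
      rw [← pow_add, ← Units.val_pow_eq_pow_val, show 4 + 4 = orderOf z by omega,
        pow_orderOf_eq_one, Units.val_one]
    rcases mul_self_eq_one_iff.mp h8 with h | h
    · have h' : z ^ 4 = 1 := Units.ext (by rw [Units.val_pow_eq_pow_val, h, Units.val_one])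
      have := orderOf_dvd_of_pow_eq_one h'
      rw [hz] at this
      norm_num at this
    · exact h
  have h2 : (2 : F) ≠ 0 := by
    intro h
    have h3 : (3 : F) = 0 := CharP.cast_eq_zero F 3
    exact one_ne_zero (by linear_combination h3 - h : (1 : F) = 0)
  set π := QuotientGroup.mk' (Subgroup.center (Matrix.SpecialLinearGroup (Fin 2) F)) with hπ
  have hinj : Function.Injective (uniHom (F := F)) := by
    rw [injective_iff_map_eq_one]
    intro b hb
    exact eq_zero_of_uni_central (F := F) (b := Multiplicative.toAdd b) ((QuotientGroup.eq_one_iff _).mp hb)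
  have hk : Nat.card (uniHom (F := F)).range = 9 := by
    rw [← Nat.card_congr (MonoidHom.ofInjective hinj).toEquiv,
      Nat.card_congr (Multiplicative.toAdd (α := F)), Nat.card_eq_fintype_card, hF]
  refine ⟨(uniHom (F := F)).range, π (dia z), fun e => ?_, ?_, ?_, ?_, ?_, ?_⟩
  · rw [e, Subgroup.card_bot] at hk
    omega
  · rw [hk]; decide
  · rintro _ ⟨b, rfl⟩ _ ⟨c, rfl⟩
    rw [← map_mul, mul_comm, map_mul]
  · refine orderOf_eq_prime_pow (p := 2) (n := 1) ?_ ?_
    · rw [pow_one, ← map_pow, hπ, QuotientGroup.mk'_apply, QuotientGroup.eq_one_iff, pow_two,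
        dia_mul]
      intro hc
      obtain ⟨r, -, hr⟩ := Matrix.SpecialLinearGroup.mem_center_iff.mp hc
      have h00 : r = ((z * z : Fˣ) : F) := by simpa [dia] using congrFun (congrFun hr 0) 0
      have h11 : r = (((z * z : Fˣ)⁻¹ : Fˣ) : F) := by
        simpa [dia] using congrFun (congrFun hr 1) 1
      have h1 : (z : F) ^ 4 = 1 := by
        calc (z : F) ^ 4 = ((z * z : Fˣ) : F) * ((z * z : Fˣ) : F) := by
              rw [Units.val_mul]; ring
          _ = 1 := by rw [← h00]; nth_rw 2 [h11]; rw [h00, ← Units.val_mul, mul_inv_cancel,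
              Units.val_one]
      rw [hz4] at h1
      exact h2 (by linear_combination -1 * h1)
    · rw [show (2 : ℕ) ^ (1 + 1) = 2 * 2 by norm_num, pow_mul, pow_two, pow_two, ← map_mul,
        ← map_mul, dia_mul, dia_mul, hπ, QuotientGroup.mk'_apply, QuotientGroup.eq_one_iff]
      have hu : z * z * (z * z) = -1 := Units.ext (by
        rw [Units.val_neg, Units.val_one, ← hz4, Units.val_mul, Units.val_mul]; ring)
      refine Matrix.SpecialLinearGroup.mem_center_iff.mpr ⟨-1, by simp, ?_⟩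
      rw [hu]
      ext i j
      fin_cases i <;> fin_cases j <;> simp [dia]
  · rintro _ ⟨b, rfl⟩
    refine ⟨Multiplicative.ofAdd ((z : F) * z * b.toAdd), ?_⟩
    rw [eq_mul_inv_iff_mul_eq]
    show π (uni ((z : F) * z * b.toAdd)) * π (dia z) = π (dia z) * π (uni b.toAdd)
    rw [← map_mul, ← map_mul, dia_conj]
  · rintro _ ⟨b, rfl⟩ hc
    have h1 : uniHom b = uniHom (Multiplicative.ofAdd ((z : F) ^ 4 * b.toAdd)) := by
      have e : π (dia z) ^ 2 * uniHom b =
          uniHom (Multiplicative.ofAdd ((z : F) ^ 4 * b.toAdd)) * π (dia z) ^ 2 := by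
        show π (dia z) ^ 2 * π (uni b.toAdd) = π (uni ((z : F) ^ 4 * b.toAdd)) * π (dia z) ^ 2
        rw [← map_pow, ← map_mul, ← map_mul, pow_two, dia_mul, dia_conj, Units.val_mul]
        exact congrArg π (congrArg (fun w => uni w * dia (z * z)) (by ring))
      exact mul_right_cancel (hc.symm.trans e)
    have h2' : b.toAdd = (z : F) ^ 4 * b.toAdd := congrArg Multiplicative.toAdd (hinj h1)
    rw [hz4] at h2'
    have hb : (2 : F) * b.toAdd = 0 := by linear_combination h2'
    have hb' : b = 1 := (mul_eq_zero.mp hb).resolve_left h2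
    rw [hb', map_one]

/-- A number that is `3` modulo `4` has a prime factor that is `3` modulo `4`. -/
theorem exists_prime_three_mod_four (n : ℕ) (hn : n % 4 = 3) :
    ∃ p, p.Prime ∧ p ∣ n ∧ p % 4 = 3 := by
  induction n using Nat.strong_induction_on with
  | _ n IH =>
  have hp : n.minFac.Prime := Nat.minFac_prime (by omega)
  obtain ⟨k, hk⟩ := Nat.minFac_dvd n
  by_cases h3 : n.minFac % 4 = 3
  · exact ⟨_, hp, ⟨k, hk⟩, h3⟩
  have hodd : n.minFac % 2 = 1 := by
    rcases hp.eq_two_or_odd with h | h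
    · have : 2 ∣ n := h ▸ ⟨k, hk⟩
      omega
    · exact h
  have h1 : n.minFac % 4 = 1 := by omega
  have hk4 : k % 4 = 3 := by
    have := Nat.mul_mod n.minFac k 4
    rw [← hk, h1, one_mul, Nat.mod_mod] at this
    omega
  have hlt : k < n := by
    have := Nat.mul_le_mul_right k hp.two_le
    omega
  obtain ⟨p, hp', hpk, hp4⟩ := IH k hlt hk4
  exact ⟨p, hp', hpk.trans (hk ▸ dvd_mul_left k _), hp4⟩

section Suzuki

open CfsgLib.Suzuki

variable {m : ℕ}

theorem sz_oneClass (h : SzHyp F m) : CITApp.OneClass (Cfsg.Sz F m) := by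
  haveI : Fact (Nat.Prime 2) := ⟨Nat.prime_two⟩
  refine CITApp.oneClass_of_target (tS h 0 1) fun x hx => ?_
  obtain ⟨P, hP⟩ := (IsPGroup.of_card (p := 2) (n := 1)
    (by rw [Nat.card_zpowers, hx, pow_one]) : IsPGroup 2 (Subgroup.zpowers x)).exists_le_sylow
  obtain ⟨c, hc⟩ := exists_map_tGroup h P
  have hmem := hP (Subgroup.mem_zpowers x)
  rw [hc, mem_map_conj] at hmem
  obtain ⟨a, b, hab⟩ := hmem
  have hxx : x * x = 1 := by rw [← pow_two, ← hx, pow_orderOf_eq_one]
  have hsq : tS h a b * tS h a b = 1 := by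
    rw [← hab]
    calc c⁻¹ * x * c * (c⁻¹ * x * c) = c⁻¹ * (x * x) * c := by group
      _ = 1 := by rw [hxx, mul_one, inv_mul_cancel]
  rw [tS_sq] at hsq
  have ha : a = 0 := by
    rcases mul_eq_zero.mp ((tS_eq_one h).1 hsq).2 with e | e
    · exact sig_eq_zero.mp e
    · exact e
  subst ha
  have hb : b ≠ 0 := by
    intro e
    subst e
    rw [tS_zero] at hab
    have : x = 1 := by
      have h' := congrArg (fun w => c * w * c⁻¹) hab
      simpa [mul_assoc] using h'
    rw [this, orderOf_one] at hx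
    omega
  have hinj : Function.Injective fun k : Fˣ => k * Units.mk0 (sig m (k : F))
      (fun e => k.ne_zero (sig_eq_zero.mp e)) := by
    intro k j e
    have e' : (k : F) * sig m (k : F) = (j : F) * sig m (j : F) := congrArg Units.val e
    have h1 : ((k : F) / j) * sig m ((k : F) / j) = 1 := by
      rw [sig_div, div_mul_div_comm, e', div_self]
      exact mul_ne_zero j.ne_zero fun e => j.ne_zero (sig_eq_zero.mp e)
    exact Units.ext ((div_eq_one_iff_eq j.ne_zero).mp (h.eq_one_of_mul_sig h1))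
  obtain ⟨k, hk⟩ := (Finite.injective_iff_surjective.mp hinj) (Units.mk0 b hb)⁻¹
  have hk' : (k : F) * sig m (k : F) = b⁻¹ := by simpa using congrArg Units.val hk
  refine ⟨dS h k * c⁻¹, ?_⟩
  calc dS h k * c⁻¹ * x * (dS h k * c⁻¹)⁻¹ = dS h k * (c⁻¹ * x * c) * (dS h k)⁻¹ := by group
    _ = tS h 0 1 := by rw [hab, dS_conj, mul_zero, hk', inv_mul_cancel₀ hb]

theorem fourFpf_of_fpf {G : Type*} [Group G] [Finite G] (U : Subgroup G) (hodd : Odd (Nat.card U))
    (hU1 : 1 < Nat.card U) (hcomm' : ∀ k ∈ U, ∀ l ∈ U, k * l = l * k)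
    (hN : 4 ∣ Nat.card (Subgroup.normalizer (U : Set G)))
    (hcent : ∀ u ∈ U, u ≠ 1 → Subgroup.centralizer {u} ≤ U) : FourFpf G := by
  haveI : Fact (Nat.Prime 2) := ⟨Nat.prime_two⟩
  set N := Subgroup.normalizer (U : Set G) with hNdef
  obtain ⟨T, hT⟩ := Sylow.exists_subgroup_card_pow_prime 2 (n := 2) (G := N)
    (by norm_num; exact hN)
  have hfix : ∀ t ∈ N, t ^ 4 = 1 → ∀ u ∈ U, u ≠ 1 → Commute t u → t = 1 := by
    intro t ht ht4 u hu hu1 hc
    have hmem : t ∈ Subgroup.centralizer {u} := Subgroup.mem_centralizer_singleton_iff.mpr hc.eq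
    replace hmem := hcent u hu hu1 hmem
    refine orderOf_eq_one_iff.mp (Nat.eq_one_of_dvd_coprimes (k := orderOf t) ?_
      (Subgroup.orderOf_dvd_natCard U hmem) (orderOf_dvd_of_pow_eq_one ht4))
    exact (Nat.coprime_two_right.mpr hodd).pow_right 2
  have hinv : ∀ t ∈ N, t * t = 1 → t ≠ 1 → ∀ u ∈ U, t * u * t⁻¹ = u⁻¹ := by
    intro t ht htt ht1 u hu
    have hmem : t * u * t⁻¹ ∈ U := (Subgroup.mem_normalizer_iff.mp ht u).mp hu
    by_contra hne
    have h1 : Commute t (u * (t * u * t⁻¹)) := by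
      have hcomm : (t * u * t⁻¹) * u = u * (t * u * t⁻¹) :=
        hcomm' _ hmem _ hu
      have hti : t⁻¹ = t := inv_eq_of_mul_eq_one_right htt
      show t * (u * (t * u * t⁻¹)) = u * (t * u * t⁻¹) * t
      calc t * (u * (t * u * t⁻¹)) = (t * u * t⁻¹) * (t * t) * u * t⁻¹ := by group
        _ = (t * u * t⁻¹) * u * t := by rw [htt, mul_one, hti]
        _ = u * (t * u * t⁻¹) * t := by rw [hcomm]
    refine ht1 (hfix t ht (by
      calc t ^ 4 = (t * t) * (t * t) := by simp only [pow_succ, pow_zero, one_mul, mul_assoc]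
        _ = 1 := by rw [htt, one_mul])
      _ (mul_mem hu hmem) (fun e => hne ?_) h1)
    exact eq_inv_of_mul_eq_one_right e
  have hT4 : ∀ t ∈ T, ((t : N) : G) ^ 4 = 1 := fun t ht => by
    have := congrArg Subtype.val (pow_card_eq_one' (x := (⟨t, ht⟩ : T)))
    rw [hT] at this
    simpa using congrArg (Subtype.val : N → G) this
  obtain ⟨⟨u, hu⟩, hu1'⟩ : ∃ u : U, u ≠ 1 := by
    haveI : Nontrivial U := Finite.one_lt_card_iff_nontrivial.mp hU1
    exact exists_ne 1
  have hu1 : u ≠ 1 := fun e => hu1' (Subtype.ext e)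
  -- at most one involution of `T`
  have huniq : ∀ s ∈ T, ∀ t ∈ T, s * s = 1 → t * t = 1 → s ≠ 1 → t ≠ 1 → s = t := by
    intro s hs t ht hss htt hs1 ht1
    have hss' : ((s : N) : G) * s = 1 := congrArg Subtype.val hss
    have htt' : ((t : N) : G) * t = 1 := congrArg Subtype.val htt
    have hs1' : ((s : N) : G) ≠ 1 := fun e => hs1 (Subtype.ext e)
    have ht1' : ((t : N) : G) ≠ 1 := fun e => ht1 (Subtype.ext e)
    have hc : Commute ((s : G) * t) u := by
      show (s : G) * t * u = u * ((s : G) * t)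
      have e1 := hinv _ t.2 htt' ht1' u hu
      have e2 := hinv _ s.2 hss' hs1' u⁻¹ (inv_mem hu)
      rw [inv_inv] at e2
      calc (s : G) * t * u
          = s * ((t : G) * u * (t : G)⁻¹) * t := by group
        _ = (s * u⁻¹ * (s : G)⁻¹) * s * t := by rw [e1]; group
        _ = u * (s * t) := by rw [e2, mul_assoc]
    have h1 : (s : G) * t = 1 := hfix _ (s * t).2 (hT4 _ (mul_mem hs ht)) u hu hu1 hc
    refine Subtype.ext ?_
    calc (s : G) = (s : G) * t * t := by rw [mul_assoc, htt', mul_one]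
      _ = t := by rw [h1, one_mul]
  obtain ⟨t, ht, ht2⟩ : ∃ t ∈ T, t * t ≠ 1 := by
    by_contra hall
    push Not at hall
    classical
    let f : T → Bool := fun t => decide ((t : N) = 1)
    have hf : Function.Injective f := by
      intro a b e
      by_cases ha : (a : N) = 1
      · by_cases hb : (b : N) = 1
        · exact Subtype.ext (ha.trans hb.symm)
        · rw [show f a = true from decide_eq_true ha, show f b = false from decide_eq_false hb] at e
          cases e
      · by_cases hb : (b : N) = 1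
        · rw [show f a = false from decide_eq_false ha, show f b = true from decide_eq_true hb] at e
          cases e
        · exact Subtype.ext (huniq a a.2 b b.2 (hall a a.2) (hall b b.2) ha hb)
    have := Nat.card_le_card_of_injective f hf
    rw [hT, Nat.card_eq_fintype_card, Fintype.card_bool] at this
    omega
  have ht2' : ((t : N) : G) ^ 2 ≠ 1 := fun e => ht2 (by
    refine Subtype.ext ?_
    rw [Subgroup.coe_mul, ← pow_two, e, Subgroup.coe_one])
  refine ⟨U, t, fun e => ?_, hodd, fun k hk l hl => ?_, ?_, fun k hk => ?_, fun k hk hc => ?_⟩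
  · rw [e, Subgroup.card_bot] at hU1
    omega
  · exact hcomm' k hk l hl
  · exact orderOf_eq_prime_pow (p := 2) (n := 1) (by rwa [pow_one]) (hT4 t ht)
  · exact (Subgroup.mem_normalizer_iff.mp t.2 k).mp hk
  · by_contra hk1
    refine ht2' (hfix _ (pow_mem t.2 2) ?_ k hk hk1 hc)
    rw [← pow_mul, mul_comm, pow_mul, hT4 t ht, one_pow]

theorem sz_fourFpf (h : SzHyp F m) : FourFpf (Cfsg.Sz F m) := by
  obtain ⟨U, -, hU, -, hk, -, -⟩ := tori_main h
  have hodd : Odd (Nat.card U) := by
    rw [hk, Nat.odd_iff, pow_succ 2 (2 * m), pow_succ 2 m]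
    omega
  haveI := hU.isCyclic h
  letI : CommGroup U := IsCyclic.commGroup
  exact fourFpf_of_fpf U hodd (lt_of_lt_of_le (by norm_num) (hU.five_le h))
    (fun k hk l hl => congrArg Subtype.val (mul_comm (⟨k, hk⟩ : U) ⟨l, hl⟩))
    (card_normalizer_exc h hU ▸ dvd_mul_right 4 _) (fun u hu hu1 => (hU.centralizer_eq h hu hu1).le)

theorem sz_facts (h : SzHyp F m) :
    FourFpf (Cfsg.Sz F m) ∧ CITApp.OneClass (Cfsg.Sz F m) ∧
      ∃ (r : ℕ) (x i : Cfsg.Sz F m), r.Prime ∧ r % 4 = 3 ∧ orderOf x = r ∧ i * x * i⁻¹ = x⁻¹ ∧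
        ∀ R : Sylow r (Cfsg.Sz F m), IsCyclic R := by
  refine ⟨sz_fourFpf h, sz_oneClass h, ?_⟩
  obtain ⟨r, hr, hrd, hr4⟩ := exists_prime_three_mod_four (2 ^ (2 * m + 1) - 1) (by
    have h4 : 4 ∣ 2 ^ (2 * m + 1) := ⟨2 ^ (2 * m - 1), by
      rw [show (4 : ℕ) = 2 ^ 2 by norm_num, ← pow_add]
      congr 1
      have := h.one_le
      omega⟩
    have := Nat.two_pow_pos (2 * m + 1)
    omega)
  haveI := Fact.mk hr
  obtain ⟨⟨x, k, rfl⟩, hx⟩ := exists_prime_orderOf_dvd_card' (G := torus h) r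
    (by rw [card_torus h]; exact hrd)
  refine ⟨r, dS h k, wS h, hr, hr4, ?_, ?_, fun R => sylow_odd_cyclic h (by omega) R⟩
  · exact (Subgroup.orderOf_coe (⟨(dHom h) k, ⟨k, rfl⟩⟩ : torus h)).trans hx
  · rw [wS_inv, wS_conj_dS, dS_inv]

end Suzuki

end CfsgLib.ThreeOrd
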