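import Mathlib.GroupTheory.Sylow
import Mathlib.GroupTheory.SpecificGroups.Cyclic
import Cfsg.Agent.Lib.CIT.TISylow

/-!
# Two criteria for the socle of a CIT group to be the whole group
-/

set_option autoImplicit false
set_option linter.style.haveILetI false

namespace CfsgLib.ThreeOrd

open CfsgLib.CIT

variable {X : Type*} [Group X] [Finite X] {T : Subgroup X}

/-- Frattini: outside `T` a 2-element normalises `⟨x⟩`, if the `r`-subgroups of `T` containing `x`
have a single subgroup of order `r`. -/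
theorem exists_two_element [T.Normal] (hq : IsPGroup 2 (X ⧸ T)) (hT : T ≠ ⊤) {x : X} {r : ℕ}
    [Fact r.Prime] (hx : orderOf x = r) (hxT : x ∈ T) (hcyc : ∀ R : Sylow r T, IsCyclic R) :
    ∃ g : X, g ∉ T ∧ (∃ j, orderOf g = 2 ^ j) ∧ g * x * g⁻¹ ∈ Subgroup.zpowers x := by
  haveI : Fact (Nat.Prime 2) := ⟨Nat.prime_two⟩
  have hxo : orderOf (⟨x, hxT⟩ : T) = r := by rw [Subgroup.orderOf_mk, hx]
  obtain ⟨R, hR⟩ := (IsPGroup.of_card (p := r) (n := 1)
    (by rw [Nat.card_zpowers, hxo, pow_one]) : IsPGroup r (Subgroup.zpowers (⟨x, hxT⟩ : T))).exists_le_sylow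
  haveI := hcyc R
  set R' := (R : Subgroup T).map T.subtype with hR'
  obtain ⟨g, hgN, hgT⟩ : ∃ g ∈ Subgroup.normalizer (R' : Set X), g ∉ T := by
    by_contra hall
    push Not at hall
    exact hT (top_le_iff.mp ((Sylow.normalizer_sup_eq_top R).ge.trans (sup_le hall le_rfl)))
  -- the odd part of `g` lies in `T`
  obtain ⟨j, a, hodd, hj⟩ := Nat.exists_eq_two_pow_mul_odd (orderOf_pos g).ne'
  have hgaT : g ^ a ∉ T := by
    intro hmem
    have h1 : QuotientGroup.mk' T g ^ a = 1 := by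
      rw [← map_pow]; exact (QuotientGroup.eq_one_iff _).mpr hmem
    obtain ⟨k, hk⟩ := hq (QuotientGroup.mk' T g)
    have h2 : orderOf (QuotientGroup.mk' T g) ∣ 1 := by
      rw [← ((Nat.coprime_two_right.mpr hodd).pow_right k).gcd_eq_one]
      exact Nat.dvd_gcd (orderOf_dvd_of_pow_eq_one h1) (orderOf_dvd_of_pow_eq_one hk)
    rw [Nat.dvd_one, orderOf_eq_one_iff] at h2
    exact hgT ((QuotientGroup.eq_one_iff g).mp h2)
  refine ⟨g ^ a, hgaT, ⟨j, by rw [orderOf_pow_of_dvd hodd.pos.ne' (hj ▸ dvd_mul_left a _), hj,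
    Nat.mul_div_cancel _ hodd.pos]⟩, ?_⟩
  set g' := g ^ a
  have hxR : x ∈ R' := ⟨⟨x, hxT⟩, hR (Subgroup.mem_zpowers _), rfl⟩
  obtain ⟨y, hyR, hy⟩ := (Subgroup.mem_normalizer_iff.mp (pow_mem hgN a) x).mp hxR
  have hyo : orderOf y = r := by
    have := congrArg orderOf hy
    rw [Subgroup.coe_subtype, Subgroup.orderOf_coe,
      show g' * x * g'⁻¹ = MulAut.conj g' x from rfl, MulEquiv.orderOf_eq, hx] at this
    exact this
  -- a cyclic group has one subgroup of each order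
  have heq : Subgroup.zpowers (⟨y, hyR⟩ : (R : Subgroup T)) =
      Subgroup.zpowers (⟨⟨x, hxT⟩, hR (Subgroup.mem_zpowers _)⟩ : (R : Subgroup T)) := by
    classical
    haveI := Fintype.ofFinite (R : Subgroup T)
    set A : Finset (R : Subgroup T) := Finset.univ.filter fun u => u ^ r = 1
    have hsub : ∀ z : (R : Subgroup T), orderOf z = r →
        (Finset.univ.filter fun u => u ∈ Subgroup.zpowers z) = A := by
      intro z hz
      refine Finset.eq_of_subset_of_card_le ?_ ?_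
      · intro u hu
        simp only [Finset.mem_filter, Finset.mem_univ, true_and] at hu
        simp only [A, Finset.mem_filter, Finset.mem_univ, true_and]
        refine orderOf_dvd_iff_pow_eq_one.mp ?_
        exact (orderOf_dvd_of_mem_zpowers hu).trans hz.dvd
      · refine (IsCyclic.card_pow_eq_one_le (Fact.out : r.Prime).pos).trans (le_of_eq ?_)
        rw [← Fintype.card_subtype, ← Nat.card_eq_fintype_card]
        exact (hz.symm.trans (Nat.card_zpowers z).symm).trans rfl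
    have h1 := (hsub ⟨y, hyR⟩ (by rw [Subgroup.orderOf_mk, hyo])).trans
      (hsub ⟨⟨x, hxT⟩, hR (Subgroup.mem_zpowers _)⟩ (by rw [Subgroup.orderOf_mk, hxo])).symm
    ext u
    simpa using Finset.ext_iff.mp h1 u
  obtain ⟨n, hn⟩ := Subgroup.mem_zpowers_iff.mp (heq.le (Subgroup.mem_zpowers _))
  refine ⟨n, ?_⟩
  have hn' := congrArg (fun u : (R : Subgroup T) => ((u : T) : X)) hn
  simp only [Subgroup.coe_zpow] at hn'
  exact hn'.trans hy

/-- A Frobenius pair of odd primes in the socle. -/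
theorem eq_top_of_pair [T.Normal] (hC : IsCIT X) (hq : IsPGroup 2 (X ⧸ T)) {x y : X} {r s : ℕ}
    (hr : r.Prime) (hr2 : r ≠ 2) (hs : s.Prime) (hs2 : s ≠ 2) (hxT : x ∈ T) (_hyT : y ∈ T)
    (hx : orderOf x = r) (hy : orderOf y = s) (hsq : ¬ r ^ 2 ∣ Nat.card T)
    (hn : y * x * y⁻¹ ∈ Subgroup.zpowers x) (hnc : ¬ Commute x y) : T = ⊤ := by
  haveI := Fact.mk hr
  haveI : Fact (Nat.Prime 2) := ⟨Nat.prime_two⟩
  by_contra hT
  obtain ⟨g, hgT, ⟨j, hj⟩, hgx⟩ := exists_two_element hq hT hx hxT fun R => by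
    obtain ⟨k, hk⟩ := IsPGroup.iff_card.mp R.2
    rcases Nat.lt_or_ge k 2 with h | h
    · rcases (show k = 0 ∨ k = 1 by omega) with rfl | rfl
      · haveI : Subsingleton (R : Subgroup T) := (Nat.card_eq_one_iff_unique.mp (by simpa using hk)).1
        infer_instance
      · exact isCyclic_of_prime_card (by simpa using hk)
    · exact absurd ((pow_dvd_pow r h).trans (hk ▸ Subgroup.card_subgroup_dvd_card (R : Subgroup T))) hsq
  set C := Subgroup.centralizer ({x} : Set X) with hC'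
  have hCodd : Odd (Nat.card C) := odd_card_of_no_invol fun t ht ho => by
    have h1 := eq_one_of_commute_invol hC ho (h := x) (Subgroup.mem_centralizer_singleton_iff.mp ht)
      (hx ▸ hr.odd_of_ne_two hr2)
    rw [h1, orderOf_one] at hx
    exact hr.ne_one hx.symm
  obtain ⟨a, ha⟩ := Subgroup.mem_zpowers_iff.mp hgx
  obtain ⟨b, hb⟩ := Subgroup.mem_zpowers_iff.mp hn
  have hconj : ∀ (h : X) (c : ℤ), h * x ^ c * h⁻¹ = (h * x * h⁻¹) ^ c := fun h c => (conj_zpow ..).symm
  -- conjugation by `g` preserves the coset `y C`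
  have key : ∀ c ∈ C, y⁻¹ * (g * (y * c) * g⁻¹) ∈ C := by
    intro c hc
    have hcx : c * x * c⁻¹ = x :=
      mul_inv_eq_iff_eq_mul.mpr (Subgroup.mem_centralizer_singleton_iff.mp hc)
    have h1 : g * (y * c) * g⁻¹ * (g * x * g⁻¹) * (g * (y * c) * g⁻¹)⁻¹ = y * (g * x * g⁻¹) * y⁻¹ := by
      calc g * (y * c) * g⁻¹ * (g * x * g⁻¹) * (g * (y * c) * g⁻¹)⁻¹
          = g * (y * (c * x * c⁻¹) * y⁻¹) * g⁻¹ := by group
        _ = g * x ^ b * g⁻¹ := by rw [hcx, hb]
        _ = (x ^ a) ^ b := by rw [hconj, ← ha]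
        _ = (x ^ b) ^ a := by rw [← zpow_mul, ← zpow_mul, mul_comm]
        _ = y * (g * x * g⁻¹) * y⁻¹ := by rw [← ha, hconj, hb]
    have h2 : Commute (y⁻¹ * (g * (y * c) * g⁻¹)) (g * x * g⁻¹) := by
      show y⁻¹ * (g * (y * c) * g⁻¹) * (g * x * g⁻¹) = g * x * g⁻¹ * (y⁻¹ * (g * (y * c) * g⁻¹))
      rw [mul_assoc y⁻¹, mul_inv_eq_iff_eq_mul.mp h1]
      group
    obtain ⟨k, hk⟩ : ∃ k : ℕ, (g * x * g⁻¹) ^ k = x := by
      have hmem : x ∈ Subgroup.zpowers (g * x * g⁻¹) := by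
        have hle : Subgroup.zpowers (g * x * g⁻¹) = Subgroup.zpowers x :=
          Subgroup.eq_of_le_of_card_ge (Subgroup.zpowers_le.mpr hgx) (by
            rw [Nat.card_zpowers, Nat.card_zpowers, ← MulAut.conj_apply, MulEquiv.orderOf_eq])
        rw [hle]; exact Subgroup.mem_zpowers x
      exact mem_powers_iff_mem_zpowers.mpr hmem
    exact Subgroup.mem_centralizer_singleton_iff.mpr (hk ▸ h2.pow_right k).eq
  let f : Equiv.Perm C :=
    Equiv.ofBijective (fun c => ⟨y⁻¹ * (g * (y * c) * g⁻¹), key c c.2⟩)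
      (Finite.injective_iff_bijective.mp fun c c' h => Subtype.ext
        (mul_left_cancel (mul_left_cancel (mul_right_cancel (mul_left_cancel (congrArg Subtype.val h))))))
  have hf : ∀ (n : ℕ) (c : C), y * ((f ^ n) c : X) = g ^ n * (y * c) * (g ^ n)⁻¹ := by
    intro n
    induction n with
    | zero => intro c; simp
    | succ n ih =>
      intro c
      rw [pow_succ', Equiv.Perm.mul_apply]
      show y * (y⁻¹ * (g * (y * ((f ^ n) c : X)) * g⁻¹)) = _
      rw [ih, mul_inv_cancel_left, pow_succ']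
      group
  have hfj : f ^ 2 ^ j = 1 := Equiv.ext fun c => Subtype.ext (mul_left_cancel (a := y) (by
    rw [hf, ← hj, pow_orderOf_eq_one]; simp))
  classical
  haveI := Fintype.ofFinite C
  obtain ⟨c, hc⟩ := Equiv.Perm.exists_fixed_point_of_prime (p := 2) (σ := f) (n := j)
    (by rw [← Nat.card_eq_fintype_card]; exact Nat.two_dvd_ne_zero.mpr (Nat.odd_iff.mp hCodd))
    hfj
  -- `g` commutes with an element of `y C`
  have hgy : Commute g (y * c) := by
    have := hf 1 c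
    rw [pow_one, pow_one, hc] at this
    exact (mul_inv_eq_iff_eq_mul.mp this.symm)
  have hg1 : g ≠ 1 := fun h => hgT (h ▸ T.one_mem)
  obtain ⟨i, hi2⟩ : ∃ i : ℕ, orderOf (g ^ i) = 2 := by
    refine ⟨orderOf g / 2, orderOf_pow_orderOf_div (orderOf_pos g).ne' ?_⟩
    rw [hj]
    refine dvd_pow_self 2 fun h0 => hg1 (orderOf_eq_one_iff.mp ?_)
    rw [hj, h0, pow_zero]
  -- an element of `y C` is not a 2-element
  obtain ⟨k, o, hodd, ho⟩ := Nat.exists_eq_two_pow_mul_odd (orderOf_pos (y * c)).ne'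
  have h1 : (y * c) ^ 2 ^ k = 1 := eq_one_of_commute_invol hC hi2 (hgy.pow_pow i (2 ^ k))
    (by rwa [orderOf_pow_of_dvd (by positivity) (ho ▸ dvd_mul_right _ _), ho,
      Nat.mul_div_cancel_left _ (by positivity)])
  -- but `y` centralises `x` if `(y c)^(2^k)` is trivial
  refine hnc ?_
  have hcx : (c : X) * x * (c : X)⁻¹ = x :=
    mul_inv_eq_iff_eq_mul.mpr (Subgroup.mem_centralizer_singleton_iff.mp c.2)
  have hpow : ∀ n : ℕ, (y * c) ^ n * x * ((y * c) ^ n)⁻¹ = y ^ n * x * (y ^ n)⁻¹ := by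
    intro n
    induction n with
    | zero => simp
    | succ n ih =>
      obtain ⟨d, hd⟩ : ∃ d : ℤ, y ^ n * x * (y ^ n)⁻¹ = x ^ d := by
        clear ih
        induction n with
        | zero => exact ⟨1, by simp⟩
        | succ n ih' =>
          obtain ⟨d, hd⟩ := ih'
          refine ⟨b * d, ?_⟩
          calc y ^ (n + 1) * x * (y ^ (n + 1))⁻¹ = y * (y ^ n * x * (y ^ n)⁻¹) * y⁻¹ := by
                rw [pow_succ']; group
            _ = x ^ (b * d) := by rw [hd, hconj, ← hb, ← zpow_mul]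
      calc (y * c) ^ (n + 1) * x * ((y * c) ^ (n + 1))⁻¹
          = y * ((c : X) * ((y * c) ^ n * x * ((y * c) ^ n)⁻¹) * (c : X)⁻¹) * y⁻¹ := by
            rw [pow_succ']; simp only [mul_inv_rev, mul_assoc]
        _ = y * (y ^ n * x * (y ^ n)⁻¹) * y⁻¹ := by rw [ih, hd, hconj, hcx]
        _ = y ^ (n + 1) * x * (y ^ (n + 1))⁻¹ := by rw [pow_succ']; group
  have h3 : Commute (y ^ 2 ^ k) x := by
    have := hpow (2 ^ k)
    rw [h1, one_mul, inv_one, mul_one] at this
    exact mul_inv_eq_iff_eq_mul.mp this.symm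
  obtain ⟨e, he⟩ := exists_pow_eq_self_of_coprime (x := y) (n := 2 ^ k)
    (by rw [hy]; exact ((Nat.coprime_primes Nat.prime_two hs).mpr (Ne.symm hs2)).pow_left k)
  have h4 := h3.pow_left e
  rw [he] at h4
  exact h4.symm

/-- An inverted element of prime order `r ≡ 3 (mod 4)` with cyclic Sylow subgroups in the socle. -/
theorem eq_top_of_inverted [T.Normal] (hC : IsCIT X) (hq : IsPGroup 2 (X ⧸ T)) {x i : X} {r : ℕ}
    (hr : r.Prime) (hr3 : r % 4 = 3) (hxT : x ∈ T) (hx : orderOf x = r) (hiT : i ∈ T)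
    (hi : i * x * i⁻¹ = x⁻¹) (hcyc : ∀ R : Sylow r T, IsCyclic R) : T = ⊤ := by
  haveI := Fact.mk hr
  haveI : Fact (Nat.Prime 2) := ⟨Nat.prime_two⟩
  by_contra hT
  obtain ⟨g, hgT, ⟨j, hj⟩, hgx⟩ := exists_two_element hq hT hx hxT hcyc
  obtain ⟨a, ha⟩ := mem_powers_iff_mem_zpowers.mpr hgx
  simp only at ha
  have hstep : ∀ n : ℕ, g ^ n * x * (g ^ n)⁻¹ = x ^ (a ^ n) := by
    intro n
    induction n with
    | zero => simp
    | succ n ih =>
      calc g ^ (n + 1) * x * (g ^ (n + 1))⁻¹ = g * (g ^ n * x * (g ^ n)⁻¹) * g⁻¹ := by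
            rw [pow_succ']; group
        _ = (g * x * g⁻¹) ^ a ^ n := by rw [ih, conj_pow]
        _ = x ^ a ^ (n + 1) := by rw [← ha, ← pow_mul, pow_succ']
  -- the residue of `a` is a square root of one
  have h1 : ((a : ZMod r)) ^ 2 = 1 := by
    have h0 := hstep (2 ^ j)
    rw [← hj, pow_orderOf_eq_one, one_mul, inv_one, mul_one] at h0
    have h2 : (a : ZMod r) ^ 2 ^ j = 1 := by
      rw [← Nat.cast_pow, ← Nat.cast_one, ZMod.natCast_eq_natCast_iff', ← hx]
      refine pow_eq_pow_iff_modEq.mp ?_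
      rw [pow_one, ← hj]; exact h0.symm
    have ha0 : (a : ZMod r) ≠ 0 := fun h => by
      rw [h, zero_pow (by positivity)] at h2
      exact zero_ne_one h2
    have h3 : orderOf (a : ZMod r) ∣ 2 := by
      have hd1 := orderOf_dvd_of_pow_eq_one h2
      have hd2 := orderOf_dvd_of_pow_eq_one (ZMod.pow_card_sub_one_eq_one ha0)
      obtain ⟨t, -, ht⟩ := (Nat.dvd_prime_pow Nat.prime_two).mp hd1
      rcases Nat.lt_or_ge t 2 with h | h
      · rw [ht]; exact (pow_dvd_pow 2 (show t ≤ 1 by omega)).trans (by norm_num)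
      · have : 4 ∣ r - 1 := (pow_dvd_pow 2 h).trans (ht ▸ hd2)
        omega
    exact orderOf_dvd_iff_pow_eq_one.mp h3
  have hcase : g * x * g⁻¹ = x ∨ g * x * g⁻¹ = x⁻¹ := by
    rcases sq_eq_one_iff.mp h1 with h | h
    · left
      rw [← ha]
      refine (pow_eq_pow_iff_modEq.mpr ?_).trans (pow_one x)
      rw [hx, ← ZMod.natCast_eq_natCast_iff, h, Nat.cast_one]
    · right
      rw [← ha, eq_inv_iff_mul_eq_one, ← pow_succ, ← orderOf_dvd_iff_pow_eq_one, hx,
        ← CharP.cast_eq_zero_iff (ZMod r) r]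
      rw [Nat.cast_add, h, Nat.cast_one, neg_add_cancel]
  -- an element outside `T` centralises `x`
  obtain ⟨z, hzT, hzx⟩ : ∃ z : X, z ∉ T ∧ z * x * z⁻¹ = x := by
    rcases hcase with h | h
    · exact ⟨g, hgT, h⟩
    · refine ⟨g * i, fun hmem => hgT ((T.mul_mem_cancel_right hiT).mp hmem), ?_⟩
      calc g * i * x * (g * i)⁻¹ = g * (i * x * i⁻¹) * g⁻¹ := by group
        _ = (g * x * g⁻¹)⁻¹ := by rw [hi]; group
        _ = x := by rw [h, inv_inv]
  have hz2 : 2 ∣ orderOf z := by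
    obtain ⟨k, hk⟩ := IsPGroup.iff_orderOf.mp hq (QuotientGroup.mk' T z)
    refine dvd_trans ?_ (orderOf_map_dvd (QuotientGroup.mk' T) z)
    rw [hk]
    refine dvd_pow_self 2 fun h0 => hzT ((QuotientGroup.eq_one_iff z).mp (orderOf_eq_one_iff.mp ?_))
    show orderOf (QuotientGroup.mk' T z) = 1
    rw [hk, h0, pow_zero]
  have hx1 := eq_one_of_commute_invol hC (orderOf_pow_orderOf_div (orderOf_pos z).ne' hz2)
    ((show Commute z x from mul_inv_eq_iff_eq_mul.mp hzx).pow_left _)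
    (hx ▸ hr.odd_of_ne_two (by omega))
  rw [hx1, orderOf_one] at hx
  exact hr.ne_one hx.symm

end CfsgLib.ThreeOrd
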