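import Mathlib.GroupTheory.OrderOfElement

/-!
# Groups in which no prime divides three distinct element orders
-/

set_option autoImplicit false

namespace CfsgLib.ThreeOrd

/-- No prime divides three pairwise distinct element orders. -/
def Prop3 (G : Type*) [Group G] : Prop :=
  ∀ p : ℕ, p.Prime → ∀ a b c : G, orderOf a ≠ orderOf b → orderOf b ≠ orderOf c →
    orderOf a ≠ orderOf c → ¬ (p ∣ orderOf a ∧ p ∣ orderOf b ∧ p ∣ orderOf c)

theorem Prop3.of_injective {G H : Type*} [Group G] [Group H] (hG : Prop3 G) (f : H →* G)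
    (hf : Function.Injective f) : Prop3 H := by
  intro p hp a b c hab hbc hac
  simp only [← orderOf_injective f hf a, ← orderOf_injective f hf b, ← orderOf_injective f hf c] at hab hbc hac ⊢
  exact hG p hp (f a) (f b) (f c) hab hbc hac

theorem Prop3.subgroup {G : Type*} [Group G] (hG : Prop3 G) (H : Subgroup G) : Prop3 H :=
  hG.of_injective H.subtype H.subtype_injective

/-- The element orders of a homomorphic image occur in the group. -/
theorem exists_orderOf_eq_of_surjective {G H : Type*} [Group G] [Finite G] [Group H] (f : G →* H)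
    (hf : Function.Surjective f) (h : H) : ∃ g : G, orderOf g = orderOf h := by
  obtain ⟨g, rfl⟩ := hf h
  obtain ⟨k, hk⟩ := orderOf_map_dvd f g
  refine ⟨g ^ k, ?_⟩
  have hk0 : k ≠ 0 := by
    rintro rfl
    rw [mul_zero] at hk
    exact (orderOf_pos g).ne' hk
  rw [orderOf_pow_of_dvd hk0 (hk ▸ dvd_mul_left k _), hk, Nat.mul_div_cancel _ (Nat.pos_of_ne_zero hk0)]

theorem Prop3.of_surjective {G H : Type*} [Group G] [Finite G] [Group H] (hG : Prop3 G) (f : G →* H)
    (hf : Function.Surjective f) : Prop3 H := by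
  intro p hp a b c hab hbc hac
  obtain ⟨a', ha⟩ := exists_orderOf_eq_of_surjective f hf a
  obtain ⟨b', hb⟩ := exists_orderOf_eq_of_surjective f hf b
  obtain ⟨c', hc⟩ := exists_orderOf_eq_of_surjective f hf c
  simp only [← ha, ← hb, ← hc] at hab hbc hac ⊢
  exact hG p hp a' b' c' hab hbc hac

end CfsgLib.ThreeOrd
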