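import Cfsg.Agent.Lib.AutPSL.Count
import Cfsg.Agent.Lib.ThreeOrd.Defs

/-!
Between `PSL₂(q)` and its automorphism group, the only group in which no prime divides three
element orders is `PSL₂(q)` itself (for `q` even, `q ∈ {5, 7, 9}`, or without elements of order 4).
-/

set_option autoImplicit false
set_option linter.style.haveILetI false
set_option linter.unusedSectionVars false

namespace CfsgLib.ThreeOrd

open Matrix
open CfsgLib.AutPSL (diagAut fieldAut PSLg SLg)

variable {F : Type*} [Field F] [Fintype F]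

local notation "𝔇" => (diagAut (n := 2) (F := F))
local notation "Φ" => (fieldAut (n := 2) (F := F))
local notation "𝔗" => (MonoidHom.range (MulAut.conj : PSLg 2 F →* MulAut (PSLg 2 F)))

/-- An invertible two by two matrix. -/
noncomputable def mat2 (a b c d : F) (h : a * d - b * c ≠ 0) : GL (Fin 2) F :=
  GeneralLinearGroup.mkOfDetNeZero !![a, b; c, d] (by rwa [det_fin_two_of])

theorem mat2_val (a b c d : F) (h : a * d - b * c ≠ 0) :
    (mat2 a b c d h).1 = !![a, b; c, d] := rfl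

theorem det_ne_zero' (g : GL (Fin 2) F) : g.1.det ≠ 0 :=
  (g.isUnit.map (detMonoidHom (n := Fin 2) (R := F))).ne_zero

theorem diag_eq_one_iff (g : GL (Fin 2) F) :
    𝔇 g = 1 ↔ g.1 0 1 = 0 ∧ g.1 1 0 = 0 ∧ g.1 0 0 = g.1 1 1 := by
  rw [← MonoidHom.mem_ker, AutPSL.ker_diagAut (le_refl 2),
    GeneralLinearGroup.center_eq_range_scalar, MonoidHom.mem_range]
  constructor
  · rintro ⟨u, rfl⟩
    simp
  · rintro ⟨h1, h2, h3⟩
    have h0 : g.1 0 0 ≠ 0 := fun h => det_ne_zero' g (by rw [det_fin_two, h, h1]; ring)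
    refine ⟨Units.mk0 _ h0, Units.ext ?_⟩
    ext i j
    fin_cases i <;> fin_cases j <;> simp [h1, h2, h3]

theorem isSquare_mul_of_not {a b : F} (ha : ¬ IsSquare a) (hb : ¬ IsSquare b) : IsSquare (a * b) := by
  classical
  have ha0 : a ≠ 0 := fun h => ha (h ▸ IsSquare.zero)
  have hb0 : b ≠ 0 := fun h => hb (h ▸ IsSquare.zero)
  refine (quadraticChar_one_iff_isSquare (mul_ne_zero ha0 hb0)).mp ?_
  rw [map_mul, quadraticChar_neg_one_iff_not_isSquare.mpr ha,
    quadraticChar_neg_one_iff_not_isSquare.mpr hb]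
  norm_num

theorem isSquare_map_iff (σ : F ≃+* F) (a : F) : IsSquare (σ a) ↔ IsSquare a :=
  ⟨fun h => by simpa using h.map σ.symm, fun h => h.map σ⟩

theorem isSquare_of_two_eq_zero (h2 : (2 : F) = 0) (a : F) : IsSquare a := by
  refine FiniteField.isSquare_of_char_two ?_ a
  haveI : Fact (Nat.Prime 2) := ⟨Nat.prime_two⟩
  haveI : CharP F 2 := (CharP.charP_iff_prime_eq_zero Nat.prime_two).mpr (by exact_mod_cast h2)
  exact ringChar.eq F 2

theorem diag_mem_inner {g : GL (Fin 2) F} (h : IsSquare g.1.det) : 𝔇 g ∈ 𝔗 := by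
  obtain ⟨c, hc⟩ := h
  have hc0 : c ≠ 0 := fun h0 => det_ne_zero' g (by rw [hc, h0, mul_zero])
  have hdet : (c⁻¹ • g.1).det = 1 := by
    rw [det_smul, Fintype.card_fin, hc, pow_two]
    field_simp
  let s : SLg 2 F := ⟨c⁻¹ • g.1, hdet⟩
  refine ⟨QuotientGroup.mk s, ?_⟩
  rw [← AutPSL.diagAut_toGL]
  have hg : g = GeneralLinearGroup.scalar (Fin 2) (Units.mk0 c hc0) * SpecialLinearGroup.toGL s := by
    have hs : (SpecialLinearGroup.toGL s).1 = c⁻¹ • g.1 := rfl
    apply Units.ext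
    rw [Units.val_mul, hs]
    ext i j
    fin_cases i <;> fin_cases j <;>
      simp [Matrix.mul_apply, Fin.sum_univ_two, ← mul_assoc, mul_inv_cancel₀ hc0]
  conv_rhs => rw [hg, map_mul]
  have h1 : 𝔇 (GeneralLinearGroup.scalar (Fin 2) (Units.mk0 c hc0)) = 1 := by
    rw [diag_eq_one_iff]; simp
  rw [h1, one_mul]

theorem map_det (σ : F ≃+* F) (g : GL (Fin 2) F) :
    (GeneralLinearGroup.map σ.toRingHom g).1.det = σ g.1.det :=
  (RingHom.map_det σ.toRingHom g.1).symm

/-- Powers of a semilinear automorphism. -/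
theorem semilinear_pow (g : GL (Fin 2) F) (σ : F ≃+* F) (m : ℕ) :
    ∃ g' : GL (Fin 2) F, (𝔇 g * Φ σ) ^ m = 𝔇 g' * Φ (σ ^ m) ∧
      (IsSquare g'.1.det ↔ Even m ∨ IsSquare g.1.det) := by
  induction m with
  | zero => exact ⟨1, by simp, by simp⟩
  | succ m ih =>
    obtain ⟨g', hg', hsq⟩ := ih
    refine ⟨g' * GeneralLinearGroup.map (σ ^ m).toRingHom g, ?_, ?_⟩
    · rw [pow_succ, hg', mul_assoc, ← mul_assoc (Φ (σ ^ m)), AutPSL.fieldAut_diagAut,
        mul_assoc (𝔇 _) (Φ (σ ^ m)), ← map_mul, ← pow_succ, ← mul_assoc, ← map_mul]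
    rw [Units.val_mul, det_mul, map_det]
    have hm := isSquare_map_iff (σ ^ m) g.1.det
    have h0 : (σ ^ m) g.1.det ≠ 0 := (map_ne_zero_iff _ (σ ^ m).injective).mpr (det_ne_zero' g)
    have hg0 := det_ne_zero' g'
    by_cases hg : IsSquare g.1.det
    · simp only [hg, or_true, iff_true] at hsq ⊢
      exact hsq.mul (hm.mpr hg)
    · simp only [hg, or_false] at hsq ⊢
      rw [Nat.even_add_one, ← hsq]
      by_cases hg' : IsSquare g'.1.det
      · simp only [hg', not_true, iff_false]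
        intro h
        refine hg (hm.mp ?_)
        have := h.mul hg'.inv
        rwa [mul_comm g'.1.det, mul_assoc, mul_inv_cancel₀ hg0, mul_one] at this
      · simp only [hg', not_false_iff, iff_true]
        exact isSquare_mul_of_not hg' (fun h => hg (hm.mp h))

theorem orderOf_six {M : Type*} [Monoid M] {x : M} (h : x ^ 6 = 1) (h2 : x ^ 2 ≠ 1) (h3 : x ^ 3 ≠ 1) :
    orderOf x = 6 := by
  have hd := orderOf_dvd_of_pow_eq_one h
  have a1 : ¬ orderOf x ∣ 2 := fun h => h2 (orderOf_dvd_iff_pow_eq_one.mp h)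
  have a2 : ¬ orderOf x ∣ 3 := fun h => h3 (orderOf_dvd_iff_pow_eq_one.mp h)
  have hle := Nat.le_of_dvd (by norm_num) hd
  interval_cases orderOf x <;> omega

theorem orderOf_sq_sq {M : Type*} [Monoid M] {x : M} (h2 : x ^ 2 ≠ 1) (h4 : x ^ 4 = 1) :
    orderOf x = 4 := by
  haveI : Fact (Nat.Prime 2) := ⟨Nat.prime_two⟩
  exact orderOf_eq_prime_pow (p := 2) (n := 1) (by simpa using h2) (by simpa using h4)

theorem orderOf_sq_sq_sq {M : Type*} [Monoid M] {x : M} (h4 : x ^ 4 ≠ 1) (h8 : x ^ 8 = 1) :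
    orderOf x = 8 := by
  haveI : Fact (Nat.Prime 2) := ⟨Nat.prime_two⟩
  exact orderOf_eq_prime_pow (p := 2) (n := 2) (by simpa using h4) (by simpa using h8)

/-- Three distinct orders divisible by one prime. -/
theorem false_of_three {X : Subgroup (MulAut (PSLg 2 F))} (h3 : Prop3 X) {p : ℕ} (hp : p.Prime)
    {a b c : MulAut (PSLg 2 F)} (ha : a ∈ X) (hb : b ∈ X) (hc : c ∈ X) {i j k : ℕ}
    (hi : orderOf a = i) (hj : orderOf b = j) (hk : orderOf c = k) (hij : i ≠ j) (hjk : j ≠ k)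
    (hik : i ≠ k) (pi : p ∣ i) (pj : p ∣ j) (pk : p ∣ k) : False := by
  refine h3 p hp ⟨a, ha⟩ ⟨b, hb⟩ ⟨c, hc⟩ ?_ ?_ ?_ ⟨?_, ?_, ?_⟩ <;>
    simp only [Subgroup.orderOf_mk, hi, hj, hk] <;> assumption

/-- The standard elements. -/
theorem exists_two : ∃ g : GL (Fin 2) F, g.1 = !![0, 1; -1, 0] ∧ g.1.det = 1 ∧ orderOf (𝔇 g) = 2 := by
  haveI : Fact (Nat.Prime 2) := ⟨Nat.prime_two⟩
  refine ⟨mat2 0 1 (-1) 0 (by norm_num), rfl, by simp [mat2_val, det_fin_two_of],
    orderOf_eq_prime ?_ ?_⟩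
  · rw [← map_pow, diag_eq_one_iff, Units.val_pow_eq_pow_val, mat2_val, pow_two]
    simp
  · rw [Ne, diag_eq_one_iff, mat2_val]
    simp

theorem exists_three : ∃ g : GL (Fin 2) F, g.1 = !![0, -1; 1, -1] ∧ g.1.det = 1 ∧ orderOf (𝔇 g) = 3 := by
  haveI : Fact (Nat.Prime 3) := ⟨Nat.prime_three⟩
  refine ⟨mat2 0 (-1) 1 (-1) (by norm_num), rfl, by simp [mat2_val, det_fin_two_of],
    orderOf_eq_prime ?_ ?_⟩
  · rw [← map_pow, diag_eq_one_iff, Units.val_pow_eq_pow_val, mat2_val, pow_succ, pow_two]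
    simp
  · rw [Ne, diag_eq_one_iff, mat2_val]
    simp

theorem unipotent_pow (g : GL (Fin 2) F) {t : F} (hg : g.1 = !![1, t; 0, 1]) (k : ℕ) :
    (g ^ k).1 = !![1, (k : F) * t; 0, 1] := by
  rw [Units.val_pow_eq_pow_val, hg]
  induction k with
  | zero => simp [one_fin_two]
  | succ k ih => rw [pow_succ, ih]; simp [add_mul, add_comm]

theorem orderOf_unipotent {p : ℕ} (hp : p.Prime) (hp0 : (p : F) = 0) (g : GL (Fin 2) F) {t : F}
    (ht : t ≠ 0) (hg : g.1 = !![1, t; 0, 1]) : orderOf (𝔇 g) = p := by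
  haveI := Fact.mk hp
  refine orderOf_eq_prime ?_ ?_
  · rw [← map_pow, diag_eq_one_iff, unipotent_pow g hg, hp0]
    simp
  · rw [Ne, diag_eq_one_iff, hg]
    simp [ht]

/-- An element with fixed entries commutes with the field automorphism. -/
theorem commute_field (σ : F ≃+* F) (g : GL (Fin 2) F) (hg : ∀ i j, σ (g.1 i j) = g.1 i j) :
    Commute (Φ σ) (𝔇 g) := by
  show Φ σ * 𝔇 g = 𝔇 g * Φ σ
  rw [AutPSL.fieldAut_diagAut]
  congr 2
  exact Units.ext (Matrix.ext hg)

theorem two_eq_zero_or (p : ℕ) [CharP F p] :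
    ((2 : F) = 0 ∧ p = 2) ∨ ((2 : F) ≠ 0 ∧ p ≠ 2) := by
  by_cases hp : p = 2
  · subst hp; exact Or.inl ⟨by exact_mod_cast CharP.cast_eq_zero F 2, rfl⟩
  · refine Or.inr ⟨fun h => hp ?_, hp⟩
    exact (Nat.prime_dvd_prime_iff_eq (CharP.char_is_prime F p) Nat.prime_two).mp
      ((CharP.cast_eq_zero_iff F p 2).mp (by exact_mod_cast h))

section Main

variable {X : Subgroup (MulAut (PSLg 2 F))}

theorem diag_mem (hle : 𝔗 ≤ X) {g : GL (Fin 2) F} (hg : 𝔇 g ∈ X) (hns : ¬ IsSquare g.1.det)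
    (h : GL (Fin 2) F) : 𝔇 h ∈ X := by
  by_cases hh : IsSquare h.1.det
  · exact hle (diag_mem_inner hh)
  · have h1 : IsSquare (h * g).1.det := by
      rw [Units.val_mul, det_mul]; exact isSquare_mul_of_not hh hns
    have := X.mul_mem (hle (diag_mem_inner h1)) (X.inv_mem hg)
    rwa [map_mul, mul_inv_cancel_right] at this

theorem exists_four (h2 : (2 : F) ≠ 0) : ∃ g : GL (Fin 2) F, orderOf (𝔇 g) = 4 := by
  refine ⟨mat2 1 (-1) 1 1 (by ring_nf; exact h2), orderOf_sq_sq ?_ ?_⟩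
  · rw [← map_pow, Ne, diag_eq_one_iff, Units.val_pow_eq_pow_val, mat2_val, pow_two]
    simp [← two_mul, one_add_one_eq_two, h2]
  · rw [← map_pow, diag_eq_one_iff, Units.val_pow_eq_pow_val, mat2_val, pow_succ, pow_succ, pow_two]
    simp

theorem card_ne {n : ℕ} (hn : Fintype.card F = n) : (n : F) = 0 :=
  hn ▸ FiniteField.cast_card_eq_zero F

/-- No element of the group is diagonal outside the inner automorphisms. -/
theorem isSquare_det (hle : 𝔗 ≤ X) (h3 : Prop3 X)
    (hq : (2 : F) = 0 ∨ Fintype.card F = 5 ∨ Fintype.card F = 7 ∨ Fintype.card F = 9 ∨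
      ∀ x ∈ X, orderOf x ≠ 4) {g : GL (Fin 2) F} (hg : 𝔇 g ∈ X) : IsSquare g.1.det := by
  by_contra hns
  have h2 : (2 : F) ≠ 0 := fun h => hns (isSquare_of_two_eq_zero h _)
  have hall := diag_mem hle hg hns
  obtain ⟨a, -, -, ha⟩ := exists_two (F := F)
  obtain ⟨b, hb⟩ := exists_four h2
  suffices ∃ c : GL (Fin 2) F, orderOf (𝔇 c) = 6 ∨ orderOf (𝔇 c) = 8 by
    obtain ⟨c, hc | hc⟩ := this <;>
      exact false_of_three h3 Nat.prime_two (hall a) (hall b) (hall c) ha hb hc (by norm_num)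
        (by norm_num) (by norm_num) (by norm_num) (by norm_num) (by norm_num)
  rcases hq with h | h | h | h | h
  · exact absurd h h2
  · have h5 : (5 : F) = 0 := by exact_mod_cast card_ne h
    have h1 : (1 : F) ≠ 0 := one_ne_zero
    refine ⟨mat2 0 (-2) 1 1 (by ring_nf; exact h2), Or.inl (orderOf_six ?_ ?_ ?_)⟩
    · rw [← map_pow, diag_eq_one_iff, Units.val_pow_eq_pow_val, mat2_val, pow_succ, pow_succ, pow_succ,
        pow_succ, pow_two]
      simp
      exact ⟨by linear_combination (-2) * h5, by linear_combination h5, by linear_combination (-1) * h5⟩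
    · rw [← map_pow, Ne, diag_eq_one_iff, Units.val_pow_eq_pow_val, mat2_val, pow_two]
      simp
    · rw [← map_pow, Ne, diag_eq_one_iff, Units.val_pow_eq_pow_val, mat2_val, pow_succ, pow_two]
      simp
      intro _ hh
      exact one_ne_zero (α := F) (by linear_combination -hh)
  · have h7 : (7 : F) = 0 := by exact_mod_cast card_ne h
    have h30 : (3 : F) ≠ 0 := fun h3' => one_ne_zero (α := F) (by linear_combination h7 - 2 * h3')
    refine ⟨mat2 3 0 0 1 (by simpa using h30), Or.inl (orderOf_six ?_ ?_ ?_)⟩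
    · rw [← map_pow, diag_eq_one_iff, Units.val_pow_eq_pow_val, mat2_val, pow_succ, pow_succ, pow_succ,
        pow_succ, pow_two]
      simp
      linear_combination 104 * h7
    · rw [← map_pow, Ne, diag_eq_one_iff, Units.val_pow_eq_pow_val, mat2_val, pow_two]
      simp
      intro hh
      exact one_ne_zero (α := F) (by linear_combination hh - h7)
    · rw [← map_pow, Ne, diag_eq_one_iff, Units.val_pow_eq_pow_val, mat2_val, pow_succ, pow_two]
      simp
      intro hh
      exact h2 (by linear_combination 4 * h7 - hh)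
  · obtain ⟨e, he⟩ := IsCyclic.exists_ofOrder_eq_natCard (α := Fˣ)
    rw [Nat.card_units, Nat.card_eq_fintype_card, h] at he
    refine ⟨mat2 e 0 0 1 (by simp), Or.inr (orderOf_sq_sq_sq ?_ ?_)⟩
    · rw [← map_pow, Ne, diag_eq_one_iff, Units.val_pow_eq_pow_val, mat2_val, pow_succ, pow_succ, pow_two]
      simp
      intro hh
      have h4 : e ^ 4 = 1 := Units.ext (by rw [Units.val_pow_eq_pow_val, Units.val_one, ← hh]; ring)
      have := Nat.le_of_dvd (by norm_num) (orderOf_dvd_of_pow_eq_one h4)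
      omega
    · rw [← map_pow, diag_eq_one_iff, Units.val_pow_eq_pow_val]
      have h8 : (e : F) ^ 8 = 1 := by
        rw [← Units.val_pow_eq_pow_val, show (8 : ℕ) = orderOf e from he.symm, pow_orderOf_eq_one,
          Units.val_one]
      rw [mat2_val, pow_succ, pow_succ, pow_succ, pow_succ, pow_succ, pow_succ, pow_two]
      simp
      linear_combination h8
  · exact absurd hb (h _ (hall b))

/-- A nonzero trace of a field automorphism of order three. -/
theorem exists_trace_ne {σ : F ≃+* F} (hσ : σ ≠ 1) :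
    ∃ t : F, t + σ t + σ (σ t) ≠ 0 := by
  by_contra hh
  push Not at hh
  obtain ⟨a, ha⟩ : ∃ a, σ a ≠ a := by
    by_contra h
    push Not at h
    exact hσ (RingEquiv.ext h)
  have key : ∀ t, (a - σ (σ a)) * t + (σ a - σ (σ a)) * σ t = 0 := fun t => by
    have h1 := hh (a * t)
    rw [map_mul, map_mul] at h1
    linear_combination h1 - σ (σ a) * hh t
  have k1 := key 1
  rw [map_one, mul_one, mul_one] at k1
  have hne : σ a - σ (σ a) ≠ 0 := fun h => ha (σ.injective (sub_eq_zero.mp h).symm)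
  refine hσ (RingEquiv.ext fun t => ?_)
  have : (σ a - σ (σ a)) * (σ t - t) = 0 := by linear_combination key t - t * k1
  exact sub_eq_zero.mp ((mul_eq_zero.mp this).resolve_left hne)

theorem field_order_three_char_three (hle : 𝔗 ≤ X) {σ : F ≃+* F} (hσX : Φ σ ∈ X)
    (hσ : orderOf σ = 3) (h3F : (3 : F) = 0) : ∃ w ∈ X, orderOf w = 9 := by
  haveI : Fact (Nat.Prime 3) := ⟨Nat.prime_three⟩
  have hσ1 : σ ≠ 1 := fun h => by rw [h, orderOf_one] at hσ; omega
  obtain ⟨t, ht⟩ := exists_trace_ne hσ1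
  let g := mat2 1 t 0 1 (by simp)
  refine ⟨𝔇 g * Φ σ, X.mul_mem (hle (diag_mem_inner ?_)) hσX, ?_⟩
  · simp [g, mat2_val, det_fin_two_of]
  have hs3 : σ * (σ * σ) = 1 := by
    rw [← mul_assoc, ← pow_two, ← pow_succ]
    show σ ^ 3 = 1
    rw [← hσ, pow_orderOf_eq_one]
  let N := g * (GeneralLinearGroup.map σ.toRingHom g *
    GeneralLinearGroup.map σ.toRingHom (GeneralLinearGroup.map σ.toRingHom g))
  have hw3 : (𝔇 g * Φ σ) ^ 3 = 𝔇 N := by
    have e : ∀ h : GL (Fin 2) F, Φ σ * 𝔇 h = 𝔇 (GeneralLinearGroup.map σ.toRingHom h) * Φ σ :=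
      AutPSL.fieldAut_diagAut σ
    calc (𝔇 g * Φ σ) ^ 3 = 𝔇 g * ((Φ σ * 𝔇 g) * (Φ σ * 𝔇 g)) * Φ σ := by
          simp only [pow_succ, pow_zero, one_mul, mul_assoc]
      _ = 𝔇 g * (𝔇 (GeneralLinearGroup.map σ.toRingHom g) *
          (Φ σ * 𝔇 (GeneralLinearGroup.map σ.toRingHom g))) * (Φ σ * Φ σ) := by
          rw [e g]; simp only [mul_assoc]
      _ = 𝔇 N * (Φ σ * (Φ σ * Φ σ)) := by
          rw [e (GeneralLinearGroup.map σ.toRingHom g)]; simp only [N, map_mul, mul_assoc]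
      _ = 𝔇 N := by rw [← map_mul, ← map_mul, hs3, map_one, mul_one]
  have hN : N.1 = !![1, t + σ t + σ (σ t); 0, 1] := by
    ext i j
    fin_cases i <;> fin_cases j <;>
      simp [N, g, mat2_val, Matrix.mul_apply, Fin.sum_univ_two] <;> ring
  have hN3 := orderOf_unipotent Nat.prime_three (by exact_mod_cast h3F) N ht hN
  refine orderOf_eq_prime_pow (p := 3) (n := 1) ?_ ?_
  · rw [pow_one, hw3]
    intro h
    rw [h, orderOf_one] at hN3
    omega
  · rw [show 3 ^ (1 + 1) = 3 * 3 from rfl, pow_mul, hw3, ← hN3, pow_orderOf_eq_one]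

theorem field_order_three_char_two (hle : 𝔗 ≤ X) {σ : F ≃+* F} (hσX : Φ σ ∈ X)
    (hσ : orderOf σ = 3) (h2F : (2 : F) = 0) : ∃ w ∈ X, orderOf w = 9 := by
  haveI : Fact (Nat.Prime 3) := ⟨Nat.prime_three⟩
  have h7 : 7 ∣ Nat.card Fˣ := by
    rw [Nat.card_units, Nat.card_eq_fintype_card]
    obtain ⟨p, hp⟩ := CharP.exists F
    have hp2 : p = 2 := by
      rcases two_eq_zero_or (F := F) p with ⟨-, h⟩ | ⟨h, -⟩
      · exact h
      · exact absurd h2F h
    subst hp2
    obtain ⟨f, hpp, hf⟩ := FiniteField.card F 2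
    haveI : Fact (Nat.Prime 2) := ⟨Nat.prime_two⟩
    have hd : orderOf σ ∣ (f : ℕ) := by
      rw [← AutPSL.card_ringAut hf]; exact orderOf_dvd_natCard σ
    rw [hσ] at hd
    obtain ⟨k, hk⟩ := hd
    rw [hf, hk, pow_mul]
    have h := Nat.sub_dvd_pow_sub_pow 8 1 k
    rw [one_pow] at h
    exact h
  haveI : Fact (Nat.Prime 7) := ⟨by norm_num⟩
  obtain ⟨x, hx⟩ := exists_prime_orderOf_dvd_card' 7 h7
  have hx7 : (x : F) ^ 7 = 1 := by
    rw [← Units.val_pow_eq_pow_val, show (7 : ℕ) = orderOf x from hx.symm, pow_orderOf_eq_one,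
      Units.val_one]
  have hx1 : (x : F) - 1 ≠ 0 := by
    intro h
    have : x = 1 := Units.ext (sub_eq_zero.mp h)
    rw [this, orderOf_one] at hx
    omega
  obtain ⟨t, ht⟩ : ∃ t : F, t ^ 3 + t + 1 = 0 := by
    have h : ((x : F) - 1) * (((x : F) ^ 3 + x + 1) * ((x : F) ^ 3 + (x : F) ^ 2 + 1)) = 0 := by
      linear_combination hx7 + ((x : F) ^ 4 - (x : F) ^ 3) * h2F
    rcases mul_eq_zero.mp ((mul_eq_zero.mp h).resolve_left hx1) with h | h
    · exact ⟨x, h⟩
    · refine ⟨((x⁻¹ : Fˣ) : F), ?_⟩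
      have hi : ((x⁻¹ : Fˣ) : F) * x = 1 := by simp
      linear_combination ((x⁻¹ : Fˣ) : F) ^ 3 * h -
        (((x⁻¹ : Fˣ) : F) ^ 2 * (x : F) ^ 2 + ((x⁻¹ : Fˣ) : F) * x + 1) * hi -
        (((x⁻¹ : Fˣ) : F) ^ 2 * (x : F) + ((x⁻¹ : Fˣ) : F)) * hi
  have h6t : t ^ 6 = t ^ 2 + 1 := by linear_combination (t ^ 3 - t - 1) * ht + t * h2F
  have h7t : t ^ 7 = 1 := by linear_combination t * h6t + ht - h2F
  have h4t : t ^ 4 = t ^ 2 + t := by linear_combination t * ht - (t ^ 2 + t) * h2F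
  have hroot : ∀ r : F, r ^ 3 + r + 1 = 0 → r = t ∨ r = t ^ 2 ∨ r = t ^ 4 := by
    intro r hr
    have : (r - t) * ((r - t ^ 2) * (r - t ^ 4)) = 0 := by
      linear_combination hr - ht + (r - t) * h6t - (r - t) * r * t * ht
    rcases mul_eq_zero.mp this with h | h
    · exact Or.inl (sub_eq_zero.mp h)
    rcases mul_eq_zero.mp h with h | h
    · exact Or.inr (Or.inl (sub_eq_zero.mp h))
    · exact Or.inr (Or.inr (sub_eq_zero.mp h))
  have hσt : (σ t) ^ 3 + σ t + 1 = 0 := by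
    have := congrArg σ ht
    simpa using this
  have htr : t + σ t + σ (σ t) + t * σ t * σ (σ t) = 1 := by
    rcases hroot _ hσt with h | h | h
    · rw [h, h]
      linear_combination ht + (t - 1) * h2F
    · rw [h, map_pow, h]
      linear_combination h7t + h4t + (t ^ 2 + t) * h2F
    · rw [h, map_pow, h]
      linear_combination (t ^ 14 + t ^ 7 + 1 + t ^ 9 + t ^ 2) * h7t + h4t + (t ^ 2 + t) * h2F
  let g := mat2 0 1 1 t (by simp)
  refine ⟨𝔇 g * Φ σ, X.mul_mem (hle (diag_mem_inner (isSquare_of_two_eq_zero h2F _))) hσX, ?_⟩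
  have hs3 : σ * (σ * σ) = 1 := by
    rw [← mul_assoc, ← pow_two, ← pow_succ]
    show σ ^ 3 = 1
    rw [← hσ, pow_orderOf_eq_one]
  let N := g * (GeneralLinearGroup.map σ.toRingHom g *
    GeneralLinearGroup.map σ.toRingHom (GeneralLinearGroup.map σ.toRingHom g))
  have hw3 : (𝔇 g * Φ σ) ^ 3 = 𝔇 N := by
    have e : ∀ h : GL (Fin 2) F, Φ σ * 𝔇 h = 𝔇 (GeneralLinearGroup.map σ.toRingHom h) * Φ σ :=
      AutPSL.fieldAut_diagAut σ
    calc (𝔇 g * Φ σ) ^ 3 = 𝔇 g * ((Φ σ * 𝔇 g) * (Φ σ * 𝔇 g)) * Φ σ := by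
          simp only [pow_succ, pow_zero, one_mul, mul_assoc]
      _ = 𝔇 g * (𝔇 (GeneralLinearGroup.map σ.toRingHom g) *
          (Φ σ * 𝔇 (GeneralLinearGroup.map σ.toRingHom g))) * (Φ σ * Φ σ) := by
          rw [e g]; simp only [mul_assoc]
      _ = 𝔇 N * (Φ σ * (Φ σ * Φ σ)) := by
          rw [e (GeneralLinearGroup.map σ.toRingHom g)]; simp only [N, map_mul, mul_assoc]
      _ = 𝔇 N := by rw [← map_mul, ← map_mul, hs3, map_one, mul_one]
  have hN : N.1 = !![σ t, 1 + σ t * σ (σ t); 1 + t * σ t, t + σ (σ t) + t * σ t * σ (σ t)] := by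
    ext i j
    fin_cases i <;> fin_cases j <;>
      simp [N, g, mat2_val, Matrix.mul_apply, Fin.sum_univ_two] <;> ring
  refine orderOf_eq_prime_pow (p := 3) (n := 1) ?_ ?_
  · rw [pow_one, hw3, diag_eq_one_iff, hN]
    simp
    intro _ _ h
    exact one_ne_zero (α := F) (by linear_combination (σ t) * h2F - htr - h)
  · rw [show 3 ^ (1 + 1) = 3 * 3 from rfl, pow_mul, hw3, ← map_pow, diag_eq_one_iff,
      Units.val_pow_eq_pow_val, hN, pow_succ, pow_two]
    generalize σ (σ t) = c at htr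
    generalize σ t = b at htr
    simp
    refine ⟨?_, ?_, ?_⟩
    · linear_combination ((1 + b * c) * (t + b + c + t * b * c + 1)) * htr + (1 + b * c) * h2F
    · linear_combination ((1 + t * b) * (t + b + c + t * b * c + 1)) * htr + (1 + t * b) * h2F
    · linear_combination (b - (t + c + t * b * c)) * (t + b + c + t * b * c + 1) * htr +
        (b - b * c * t - c - t) * h2F

theorem exists_field_prime {σ : F ≃+* F} (hσ : σ ≠ 1) :
    ∃ m s : ℕ, s.Prime ∧ orderOf (σ ^ m) = s := by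
  haveI : Finite (F ≃+* F) := Finite.of_injective _ DFunLike.coe_injective
  obtain ⟨s, hs, hd⟩ := Nat.exists_prime_and_dvd (fun h => hσ (orderOf_eq_one_iff.mp h))
  exact ⟨orderOf σ / s, s, hs, orderOf_pow_orderOf_div (orderOf_pos σ).ne' hd⟩

theorem false_of_odd (hle : 𝔗 ≤ X) (h3 : Prop3 X) {σ : F ≃+* F} (hσX : Φ σ ∈ X) {s : ℕ}
    (hs : s.Prime) (hσ : orderOf σ = s) (hs2 : s ≠ 2) : False := by
  have hf : orderOf (Φ σ) = s :=
    (orderOf_injective _ (AutPSL.fieldAut_injective (le_refl 2)) σ).trans hσ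
  have hfix : ∀ g : GL (Fin 2) F, (∀ i j, σ (g.1 i j) = g.1 i j) → g.1.det = 1 → ∀ n,
      orderOf (𝔇 g) = n → Nat.Coprime s n → ∃ w ∈ X, orderOf w = s * n := by
    intro g hg hd n hn hc
    refine ⟨Φ σ * 𝔇 g, X.mul_mem hσX (hle (diag_mem_inner (hd ▸ IsSquare.one))), ?_⟩
    rw [(commute_field σ g hg).orderOf_mul_eq_mul_orderOf_of_coprime (by rwa [hf, hn]), hf, hn]
  obtain ⟨a, hae, had, ha⟩ := exists_two (F := F)
  obtain ⟨w2, hw2, ho2⟩ := hfix a (by intro i j; rw [hae]; fin_cases i <;> fin_cases j <;> simp)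
    had 2 ha ((Nat.coprime_primes hs Nat.prime_two).mpr hs2)
  by_cases hs3 : s = 3
  · subst hs3
    obtain ⟨p, hp⟩ := CharP.exists F
    have hpp : p.Prime := CharP.char_is_prime F p
    have hp0 : (p : F) = 0 := CharP.cast_eq_zero F p
    suffices ∃ w ∈ X, ∃ n, orderOf w = 3 * n ∧ 3 ≤ n by
      obtain ⟨w, hw, n, hn, hn3⟩ := this
      exact false_of_three h3 Nat.prime_three hσX hw2 hw hf ho2 hn (by norm_num) (by omega)
        (by omega) (dvd_refl 3) (dvd_mul_right 3 _) (dvd_mul_right 3 _)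
    rcases eq_or_ne p 2 with rfl | hp2
    · obtain ⟨w, hw, ho⟩ := field_order_three_char_two hle hσX hσ (by exact_mod_cast hp0)
      exact ⟨w, hw, 3, by rw [ho], le_refl 3⟩
    rcases eq_or_ne p 3 with rfl | hp3
    · obtain ⟨w, hw, ho⟩ := field_order_three_char_three hle hσX hσ (by exact_mod_cast hp0)
      exact ⟨w, hw, 3, by rw [ho], le_refl 3⟩
    have hu := orderOf_unipotent hpp hp0 (mat2 1 1 0 1 (by simp)) one_ne_zero rfl
    obtain ⟨w, hw, ho⟩ := hfix (mat2 1 1 0 1 (by simp))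
      (by intro i j; rw [mat2_val]; fin_cases i <;> fin_cases j <;> simp)
      (by simp [mat2_val, det_fin_two_of]) p hu ((Nat.coprime_primes Nat.prime_three hpp).mpr hp3.symm)
    exact ⟨w, hw, p, ho, by have := hpp.two_le; omega⟩
  · obtain ⟨b, hbe, hbd, hb⟩ := exists_three (F := F)
    obtain ⟨w3, hw3, ho3⟩ := hfix b (by intro i j; rw [hbe]; fin_cases i <;> fin_cases j <;> simp)
      hbd 3 hb ((Nat.coprime_primes hs Nat.prime_three).mpr hs3)
    have := hs.two_le
    exact false_of_three h3 hs hσX hw2 hw3 hf ho2 ho3 (by omega) (by omega) (by omega)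
      (dvd_refl s) (dvd_mul_right s _) (dvd_mul_right s _)

theorem false_of_two (hle : 𝔗 ≤ X) (h3 : Prop3 X)
    (hq : (2 : F) = 0 ∨ Fintype.card F = 5 ∨ Fintype.card F = 7 ∨ Fintype.card F = 9 ∨
      ∀ x ∈ X, orderOf x ≠ 4) {g : GL (Fin 2) F} {σ : F ≃+* F} (hβ : 𝔇 g * Φ σ ∈ X)
    (hσ : orderOf σ = 2) : False := by
  haveI : Fact (Nat.Prime 2) := ⟨Nat.prime_two⟩
  have hσ1 : σ ≠ 1 := fun h => by rw [h, orderOf_one] at hσ; omega
  have hσσ : σ * σ = 1 := by rw [← pow_two, ← hσ, pow_orderOf_eq_one]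
  have hmem : ∀ h : GL (Fin 2) F, IsSquare h.1.det ∧ IsSquare g.1.det ∨
      ¬ IsSquare h.1.det ∧ ¬ IsSquare g.1.det → 𝔇 h * Φ σ ∈ X := by
    intro h hh
    have h1 : IsSquare (h * g⁻¹).1.det := by
      have hgi : g.1.det * (g⁻¹).1.det = 1 := by rw [← det_mul, Units.mul_inv, det_one]
      have hgi' : (g⁻¹).1.det = (g.1.det)⁻¹ := eq_inv_of_mul_eq_one_right hgi
      rw [Units.val_mul, det_mul, hgi']
      rcases hh with ⟨a, b⟩ | ⟨a, b⟩
      · exact a.mul b.inv
      · exact isSquare_mul_of_not a (fun h => b (by simpa using h.inv))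
    have h2 := X.mul_mem (hle (diag_mem_inner h1)) hβ
    rwa [← mul_assoc, ← map_mul, inv_mul_cancel_right] at h2
  have hsq : ∀ h : GL (Fin 2) F, (𝔇 h * Φ σ) ^ 2 = 𝔇 (h * GeneralLinearGroup.map σ.toRingHom h) := by
    intro h
    rw [pow_two, mul_assoc, ← mul_assoc (Φ σ), AutPSL.fieldAut_diagAut, mul_assoc (𝔇 _) (Φ σ),
      ← map_mul, hσσ, map_one, mul_one, ← map_mul]
  have hsq4 : ∀ h : GL (Fin 2) F, (𝔇 h * Φ σ) ^ 4 = 𝔇 (h * GeneralLinearGroup.map σ.toRingHom h) ^ 2 :=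
    fun h => by rw [← hsq, ← pow_mul]
  have hf : orderOf (Φ σ) = 2 :=
    (orderOf_injective _ (AutPSL.fieldAut_injective (le_refl 2)) σ).trans hσ
  have hΦ : IsSquare g.1.det → Φ σ ∈ X := by
    intro hg
    have := hmem 1 (Or.inl ⟨by simp, hg⟩)
    rwa [map_one, one_mul] at this
  by_cases h2 : (2 : F) = 0
  · have hΦX := hΦ (isSquare_of_two_eq_zero h2 _)
    obtain ⟨b, hbe, hbd, hb⟩ := exists_three (F := F)
    have hw6 : orderOf (Φ σ * 𝔇 b) = 6 := by
      rw [(commute_field σ b (by intro i j; rw [hbe]; fin_cases i <;> fin_cases j <;> simp)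
        ).orderOf_mul_eq_mul_orderOf_of_coprime (by rw [hf, hb]; norm_num), hf, hb]
    obtain ⟨t, ht⟩ : ∃ t, σ t ≠ t := by
      by_contra h
      push Not at h
      exact hσ1 (RingEquiv.ext h)
    have ht' : t + σ t ≠ 0 := fun h => ht (by linear_combination h - t * h2)
    let c := mat2 1 t 0 1 (by simp)
    let N := c * GeneralLinearGroup.map σ.toRingHom c
    have hN : N.1 = !![1, t + σ t; 0, 1] := by
      ext i j
      fin_cases i <;> fin_cases j <;> simp [N, c, mat2_val, Matrix.mul_apply, Fin.sum_univ_two, add_comm]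
    have hN2 := orderOf_unipotent Nat.prime_two (by exact_mod_cast h2) N ht' hN
    have hw4 : orderOf (𝔇 c * Φ σ) = 4 := by
      refine orderOf_sq_sq ?_ ?_
      · rw [hsq]
        intro h
        rw [h, orderOf_one] at hN2
        omega
      · rw [hsq4]
        have h := pow_orderOf_eq_one (𝔇 N)
        rwa [hN2] at h
    exact false_of_three h3 Nat.prime_two hΦX (X.mul_mem hΦX (hle (diag_mem_inner (hbd ▸ IsSquare.one))))
      (X.mul_mem (hle (diag_mem_inner (g := c) (isSquare_of_two_eq_zero h2 _))) hΦX) hf hw6 hw4 (by norm_num)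
      (by norm_num) (by norm_num) (by norm_num) (by norm_num) (by norm_num)
  -- odd characteristic: the field has a square number of elements
  obtain ⟨a, ha⟩ : ∃ a, a ^ 2 = Fintype.card F :=
    ⟨_, hσ ▸ AutPSL.card_fixedField_pow σ⟩
  have h8 : 8 ∣ Nat.card Fˣ := by
    rw [Nat.card_units, Nat.card_eq_fintype_card, ← ha]
    have hodd : a % 2 = 1 := by
      rcases Nat.mod_two_eq_zero_or_one a with h | h
      · exfalso
        obtain ⟨b, rfl⟩ := Nat.dvd_of_mod_eq_zero h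
        have h0 : ((Fintype.card F : ℕ) : F) = 0 := FiniteField.cast_card_eq_zero F
        have hch : ringChar F ≠ 2 := fun hc => h2 (by
          exact_mod_cast (ringChar.spec F 2).mpr (hc ▸ dvd_refl _))
        have := FiniteField.odd_card_of_char_ne_two hch
        rw [← ha, Nat.pow_mod] at this
        simp at this
      · exact h
    obtain ⟨j, rfl⟩ : ∃ j, a = 2 * j + 1 := ⟨a / 2, by omega⟩
    obtain ⟨i, hi⟩ := (Nat.even_mul_succ_self j).two_dvd
    exact ⟨i, by rw [show (2 * j + 1) ^ 2 = 4 * (j * (j + 1)) + 1 by ring, hi]; omega⟩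
  obtain ⟨e₀, he₀⟩ := IsCyclic.exists_ofOrder_eq_natCard (α := Fˣ)
  obtain ⟨e, he⟩ : ∃ e : Fˣ, orderOf e = 8 := by
    refine ⟨e₀ ^ (Nat.card Fˣ / 8), ?_⟩
    rw [← he₀] at h8 ⊢
    exact orderOf_pow_orderOf_div (orderOf_pos e₀).ne' h8
  have he8 : (e : F) ^ 8 = 1 := by
    rw [← Units.val_pow_eq_pow_val, show (8 : ℕ) = orderOf e from he.symm, pow_orderOf_eq_one,
      Units.val_one]
  have he4 : (e : F) ^ 4 ≠ 1 := by
    intro hh
    have h4 : e ^ 4 = 1 := Units.ext (by rw [Units.val_pow_eq_pow_val, hh, Units.val_one])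
    have := Nat.le_of_dvd (by norm_num) (orderOf_dvd_of_pow_eq_one h4)
    omega
  have he0 : (e : F) ≠ 0 := e.ne_zero
  let d := mat2 (e : F) 0 0 ((e : F)⁻¹) (by simp [he0])
  have hd4 : orderOf (𝔇 d) = 4 := by
    refine orderOf_sq_sq ?_ ?_
    · rw [← map_pow, Ne, diag_eq_one_iff, Units.val_pow_eq_pow_val]
      simp only [d, mat2_val, pow_two]
      simp
      intro h
      exact he4 (by field_simp at h; linear_combination h)
    · rw [← map_pow, diag_eq_one_iff, Units.val_pow_eq_pow_val]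
      simp only [d, mat2_val, pow_succ, pow_zero, one_mul]
      simp
      field_simp
      linear_combination he8
  have hdX : 𝔇 d ∈ X := hle (diag_mem_inner (by simp [d, mat2_val, det_fin_two_of, he0]))
  rcases hq with h | h | h | h | h
  · exact h2 h
  · rw [h] at ha
    have : a ≤ 2 := by nlinarith
    interval_cases a <;> omega
  · rw [h] at ha
    have : a ≤ 2 := by nlinarith
    interval_cases a <;> omega
  swap
  · exact h _ hdX hd4
  -- nine elements
  have h9 : (9 : F) = 0 := by exact_mod_cast card_ne h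
  have h3F : (3 : F) = 0 := by
    rcases mul_eq_zero.mp (show (3 : F) * 3 = 0 by linear_combination h9) with h | h <;> exact h
  obtain ⟨w2, -, hw2d, hw2⟩ := exists_two (F := F)
  by_cases hg : IsSquare g.1.det
  · have hu := orderOf_unipotent Nat.prime_three (by exact_mod_cast h3F) (mat2 (1 : F) 1 0 1 (by simp))
      one_ne_zero rfl
    have hw6 : orderOf (Φ σ * 𝔇 (mat2 (1 : F) 1 0 1 (by simp))) = 6 := by
      rw [(commute_field σ _ (by intro i j; rw [mat2_val]; fin_cases i <;> fin_cases j <;> simp)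
        ).orderOf_mul_eq_mul_orderOf_of_coprime (by rw [hf, hu]; norm_num), hf, hu]
    exact false_of_three h3 Nat.prime_two (hle (diag_mem_inner (hw2d ▸ IsSquare.one))) hdX
      (X.mul_mem (hΦ hg) (hle (diag_mem_inner (g := mat2 (1 : F) 1 0 1 (by simp))
        (by simp [mat2_val, det_fin_two_of]))))
      hw2 hd4 hw6 (by norm_num) (by norm_num) (by norm_num) (by norm_num) (by norm_num) (by norm_num)
  · have hcard : Nat.card ↥(AutPSL.fixedField σ) = 3 := by
      have h' := hσ ▸ AutPSL.card_fixedField_pow σ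
      rw [h] at h'
      nlinarith
    have hfixed : ∀ x : F, x ≠ 0 → σ x = x → x ^ 2 = 1 := by
      intro x hx hσx
      haveI := Fintype.ofFinite ↥(AutPSL.fixedField σ)
      have h1 := FiniteField.pow_card_sub_one_eq_one (⟨x, hσx⟩ : ↥(AutPSL.fixedField σ))
        (fun hh => hx (congrArg Subtype.val hh))
      rw [Fintype.card_eq_nat_card, hcard] at h1
      exact congrArg Subtype.val h1
    have hee : ((e : F) * σ e) ^ 2 = 1 := by
      refine hfixed _ (mul_ne_zero he0 ((map_ne_zero_iff _ σ.injective).mpr he0)) ?_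
      rw [map_mul, show σ (σ e) = e from RingEquiv.congr_fun hσσ _, mul_comm]
    have he4' : (e : F) ^ 4 = -1 := by
      rcases mul_eq_zero.mp (show ((e : F) ^ 4 - 1) * ((e : F) ^ 4 + 1) = 0 by linear_combination he8)
        with hh | hh
      · exact absurd (sub_eq_zero.mp hh) he4
      · exact eq_neg_of_add_eq_zero_left hh
    have hns : ¬ IsSquare (e : F) := by
      rintro ⟨r, hr⟩
      have hr8 : r ^ 8 = 1 := by
        have hr0 : r ≠ 0 := fun h0 => he0 (by rw [hr, h0, mul_zero])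
        have := FiniteField.pow_card_sub_one_eq_one r hr0
        rwa [h] at this
      exact he4 (by rw [hr, ← pow_two, ← pow_mul]; exact hr8)
    let c := mat2 0 (e : F) 1 0 (by simp [he0])
    have hc : ¬ IsSquare c.1.det := by
      simp only [c, mat2_val, det_fin_two_of, zero_mul, zero_sub, mul_one]
      intro hh
      refine hns ?_
      have h1 : IsSquare (-1 : F) := ⟨(e : F) ^ 2, by linear_combination -he4'⟩
      simpa using hh.mul h1
    have hc2 : (c * GeneralLinearGroup.map σ.toRingHom c).1 = !![(e : F), 0; 0, σ e] := by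
      ext i j
      fin_cases i <;> fin_cases j <;> simp [c, mat2_val, Matrix.mul_apply, Fin.sum_univ_two]
    have hw8 : orderOf (𝔇 c * Φ σ) = 8 := by
      refine orderOf_sq_sq_sq ?_ ?_
      · rw [hsq4, ← map_pow, Ne, diag_eq_one_iff, Units.val_pow_eq_pow_val, hc2, pow_two]
        simp
        intro hh
        exact he4 (by linear_combination (e : F) ^ 2 * hh + hee)
      · rw [(pow_mul _ 2 4 : (𝔇 c * Φ σ) ^ 8 = _), hsq, ← map_pow, diag_eq_one_iff,
          Units.val_pow_eq_pow_val, hc2, pow_succ, pow_succ, pow_two]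
        simp
        have e1 : ((e : F) ^ 2 * σ e ^ 2) = 1 := by linear_combination hee
        linear_combination σ e ^ 4 * he8 - (e : F) ^ 4 * ((e : F) ^ 2 * σ e ^ 2 + 1) * e1
    exact false_of_three h3 Nat.prime_two (hle (diag_mem_inner (hw2d ▸ IsSquare.one))) hdX
      (hmem c (Or.inr ⟨hc, hg⟩))
      hw2 hd4 hw8 (by norm_num) (by norm_num) (by norm_num) (by norm_num) (by norm_num) (by norm_num)

end Main

/-- A group between `PSL₂(q)` and its automorphism group in which no prime divides three element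
orders is `PSL₂(q)`. -/
theorem eq_inn_of_prop3 {F : Type*} [Field F] [Fintype F] (_hF : 4 ≤ Fintype.card F)
    (X : Subgroup (MulAut (AutPSL.PSLg 2 F)))
    (hle : (MulAut.conj : AutPSL.PSLg 2 F →* _).range ≤ X) (h3 : Prop3 X)
    (hq : (2 : F) = 0 ∨ Fintype.card F = 5 ∨ Fintype.card F = 7 ∨ Fintype.card F = 9 ∨
      ∀ x ∈ X, orderOf x ≠ 4) :
    X = (MulAut.conj : AutPSL.PSLg 2 F →* _).range := by
  refine le_antisymm (fun β hβ => ?_) hle
  obtain ⟨g, σ, rfl | ⟨h, -⟩⟩ := AutPSL.aut_decomposition (le_refl 2) β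
  swap; · omega
  by_cases hσ : σ = 1
  · rw [hσ, map_one, mul_one] at hβ ⊢
    exact diag_mem_inner (isSquare_det hle h3 hq hβ)
  exfalso
  obtain ⟨m, s, hs, hms⟩ := exists_field_prime hσ
  obtain ⟨g', hg', -⟩ := semilinear_pow g σ m
  have hβ' : diagAut g' * fieldAut (σ ^ m) ∈ X := hg' ▸ X.pow_mem hβ m
  by_cases hs2 : s = 2
  · exact false_of_two hle h3 hq hβ' (hs2 ▸ hms)
  obtain ⟨N, hN, hNsq⟩ := semilinear_pow g' (σ ^ m) s
  have hN1 : (σ ^ m) ^ s = 1 := hms ▸ pow_orderOf_eq_one _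
  rw [hN1, map_one, mul_one] at hN
  have hNX : diagAut N ∈ X := hN ▸ X.pow_mem hβ' s
  have hsquare := (hNsq.mp (isSquare_det hle h3 hq hNX)).resolve_left
    (fun he => hs2 (hs.even_iff.mp he))
  refine false_of_odd hle h3 ?_ hs hms hs2
  have := X.mul_mem (X.inv_mem (hle (diag_mem_inner hsquare))) hβ'
  rwa [inv_mul_cancel_left] at this

end CfsgLib.ThreeOrd
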