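import Mathlib.GroupTheory.GroupAction.ConjAct
import Mathlib
import Cfsg.Agent.Lib.ThreeOrd.Defs

/-!
# Norms of elements acting on an abelian group, and consequences for element orders

If `x` acts without fixed points on a group `K` that moves an abelian group `V` of
coprime order, then some product `v * x v * ⋯ * x^(s-1) v` is nontrivial.
-/

set_option autoImplicit false
set_option linter.style.haveILetI false

namespace CfsgLib.ThreeOrd

open scoped IsMulCommutative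
open Finset

theorem exists_norm_ne_one {G V : Type*} [Group G] [CommGroup V] (φ : G →* MulAut V)
    (K : Subgroup G) [Finite K] {x : G} {s : ℕ} (hs : 0 < s)
    (hx : ∀ k ∈ K, x * k * x⁻¹ ∈ K)
    (hfix : ∀ i, 0 < i → i < s → ∀ k ∈ K, x ^ i * k = k * x ^ i → k = 1) {ℓ : ℕ}
    (hℓ : ∀ v : V, v ^ ℓ = 1) (hcop : Nat.Coprime (Nat.card K) ℓ) (hne : ∃ k ∈ K, φ k ≠ 1) :
    ∃ v : V, ∏ i ∈ range s, φ (x ^ i) v ≠ 1 := by
  classical
  haveI := Fintype.ofFinite K
  by_contra hall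
  push Not at hall
  have hpow : ∀ i : ℕ, ∀ k ∈ K, x ^ i * k * (x ^ i)⁻¹ ∈ K := by
    intro i
    induction i with
    | zero => intro k hk; simpa using hk
    | succ i ih =>
      intro k hk
      have := hx _ (ih k hk)
      rwa [show x * (x ^ i * k * (x ^ i)⁻¹) * x⁻¹ = x ^ (i + 1) * k * (x ^ (i + 1))⁻¹ by
        rw [pow_succ']; group] at this
  let N : V → V := fun v => ∏ y : K, φ (y : G) v
  obtain ⟨k, hk, hk1⟩ := hne
  obtain ⟨u, hu⟩ : ∃ u, φ k u ≠ u := by
    by_contra h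
    push Not at h
    exact hk1 (MulEquiv.ext h)
  set w := φ k u * u⁻¹ with hw
  have hw1 : w ≠ 1 := fun h => hu (mul_inv_eq_one.mp h)
  have hNw : ∀ i : ℕ, N (φ (x ^ i) w) = 1 := by
    intro i
    have hN0 : N w = 1 := by
      show ∏ y : K, φ (y : G) w = 1
      simp only [hw, map_mul, map_inv, prod_mul_distrib, prod_inv_distrib]
      rw [mul_inv_eq_one]
      refine Fintype.prod_equiv (Equiv.mulRight (⟨k, hk⟩ : K)) _ _ fun y => ?_
      rw [Equiv.coe_mulRight, Subgroup.coe_mul, map_mul, MulAut.mul_apply]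
    have hswap : N (φ (x ^ i) w) = φ (x ^ i) (N w) := by
      show ∏ y : K, φ (y : G) (φ (x ^ i) w) = φ (x ^ i) (∏ y : K, φ (y : G) w)
      rw [map_prod]
      let e : K → K := fun y => ⟨x ^ i * y * (x ^ i)⁻¹, hpow i y y.2⟩
      have he : Function.Bijective e := by
        refine Finite.injective_iff_bijective.mp fun a b hab => Subtype.ext ?_
        exact mul_left_cancel (mul_right_cancel (congrArg Subtype.val hab))
      refine (Fintype.prod_equiv (Equiv.ofBijective e he) _ _ fun y => ?_).symm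
      show φ (x ^ i) (φ (y : G) w) = φ (x ^ i * y * (x ^ i)⁻¹) (φ (x ^ i) w)
      rw [← MulAut.mul_apply, ← MulAut.mul_apply, ← map_mul, ← map_mul, inv_mul_cancel_right]
    rw [hswap, hN0, map_one]
  -- conjugate the norms by the elements of `K` and multiply
  have h1 : ∏ y : K, φ (y : G) (∏ i ∈ range s, φ (x ^ i) (φ ((y : G)⁻¹) w)) = 1 :=
    prod_eq_one fun y _ => by rw [hall, map_one]
  simp only [map_prod] at h1
  rw [prod_comm] at h1
  obtain ⟨s', rfl⟩ : ∃ s', s = s' + 1 := ⟨s - 1, by omega⟩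
  rw [prod_range_succ', prod_eq_one, one_mul] at h1
  · simp only [pow_zero, map_one, MulAut.one_apply, ← MulAut.mul_apply, one_mul, ← map_mul, mul_inv_cancel,
      prod_const, card_univ, ← Nat.card_eq_fintype_card] at h1
    have h2 : orderOf w ∣ Nat.gcd (Nat.card K) ℓ :=
      Nat.dvd_gcd (orderOf_dvd_of_pow_eq_one h1) (orderOf_dvd_of_pow_eq_one (hℓ w))
    rw [hcop.gcd_eq_one, Nat.dvd_one, orderOf_eq_one_iff] at h2
    exact hw1 h2
  · intro i hi
    rw [mem_range] at hi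
    let e : K → K := fun y =>
      ⟨y * (x ^ (i + 1) * (y : G)⁻¹ * (x ^ (i + 1))⁻¹),
        mul_mem y.2 (hpow _ _ (inv_mem y.2))⟩
    have he : Function.Bijective e := by
      refine Finite.injective_iff_bijective.mp fun a b hab => Subtype.ext ?_
      have h : (a : G) * (x ^ (i + 1) * (a : G)⁻¹ * (x ^ (i + 1))⁻¹) =
          (b : G) * (x ^ (i + 1) * (b : G)⁻¹ * (x ^ (i + 1))⁻¹) := congrArg Subtype.val hab
      refine (inv_mul_eq_one.mp (hfix (i + 1) (by omega) (by omega) ((b : G)⁻¹ * a)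
        (mul_mem (inv_mem b.2) a.2) ?_)).symm
      calc x ^ (i + 1) * ((b : G)⁻¹ * a) = x ^ (i + 1) * ((b : G)⁻¹ * a) := rfl
        _ = (b : G)⁻¹ * ((b : G) * (x ^ (i + 1) * (b : G)⁻¹ * (x ^ (i + 1))⁻¹)) *
              x ^ (i + 1) * a := by group
        _ = (b : G)⁻¹ * ((a : G) * (x ^ (i + 1) * (a : G)⁻¹ * (x ^ (i + 1))⁻¹)) *
              x ^ (i + 1) * a := by rw [h]
        _ = (b : G)⁻¹ * a * x ^ (i + 1) := by group
    rw [← hNw (i + 1)]
    refine Fintype.prod_equiv (Equiv.ofBijective e he) _ _ fun y => ?_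
    show φ (y : G) (φ (x ^ (i + 1)) (φ (y : G)⁻¹ w)) =
      φ ((y : G) * (x ^ (i + 1) * (y : G)⁻¹ * (x ^ (i + 1))⁻¹)) (φ (x ^ (i + 1)) w)
    simp only [← MulAut.mul_apply, ← map_mul]
    congr 2
    group

/-- Powers of an element of a coset of an abelian normal subgroup. -/
theorem coe_mul_pow {G : Type*} [Group G] (V : Subgroup G) [V.Normal] [IsMulCommutative V]
    (v : V) (g : G) (s : ℕ) :
    ((v : G) * g) ^ s = ((∏ i ∈ range s, MulAut.conjNormal (g ^ i) v : V) : G) * g ^ s := by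
  induction s with
  | zero => simp
  | succ s ih =>
    rw [pow_succ, ih, prod_range_succ, Subgroup.coe_mul, MulAut.conjNormal_apply, pow_succ]
    group

variable {G : Type*} [Group G] [Finite G]

/-- Some element of the coset `V * g` has a different `s`th power from `g`. -/
theorem exists_mul_pow_ne (W : Subgroup G) [W.Normal] (V : Subgroup G) [V.Normal]
    [IsMulCommutative V] (hVW : ∀ v ∈ V, ∀ a ∈ W, a * v = v * a) {ℓ : ℕ}
    (hℓ : ∀ v ∈ V, v ^ ℓ = 1) (K : Subgroup (G ⧸ W))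
    {x : G ⧸ W} {s : ℕ} (hs : 0 < s) (hx : ∀ k ∈ K, x * k * x⁻¹ ∈ K)
    (hfix : ∀ i, 0 < i → i < s → ∀ k ∈ K, x ^ i * k = k * x ^ i → k = 1)
    (hcop : Nat.Coprime (Nat.card K) ℓ)
    (hne : ∃ g : G, QuotientGroup.mk' W g ∈ K ∧ ∃ v ∈ V, g * v ≠ v * g)
    {g : G} (hg : QuotientGroup.mk' W g = x) : ∃ v ∈ V, (v * g) ^ s ≠ g ^ s := by
  let φ : G ⧸ W →* MulAut V := QuotientGroup.lift W MulAut.conjNormal fun a ha =>
    MonoidHom.mem_ker.mpr (MulEquiv.ext fun v => Subtype.ext (by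
      rw [MulAut.conjNormal_apply, hVW v v.2 a ha, mul_inv_cancel_right]; rfl))
  have hφ : ∀ a : G, φ (QuotientGroup.mk' W a) = MulAut.conjNormal a := fun a => rfl
  obtain ⟨a, ha, v, hv, hav⟩ := hne
  obtain ⟨u, hu⟩ := exists_norm_ne_one φ K hs hx hfix (fun v => Subtype.ext (hℓ v v.2)) hcop
    ⟨_, ha, fun h => hav (by
      have := congrArg Subtype.val (DFunLike.congr_fun h (⟨v, hv⟩ : V))
      rw [hφ, MulAut.conjNormal_apply] at this
      exact mul_inv_eq_iff_eq_mul.mp this)⟩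
  refine ⟨u, u.2, fun h => hu (Subtype.ext ?_)⟩
  rw [coe_mul_pow] at h
  simp only [← hg, ← map_pow, hφ]
  exact mul_right_cancel (h.trans (one_mul _).symm)

/-- The centre of a nontrivial normal 2-subgroup provides a module; an element of odd order outside it
moves it in a group with 2-power centralisers of involutions. -/
theorem exists_module (W : Subgroup G) [W.Normal] (hW : IsPGroup 2 W) (hW1 : W ≠ ⊥) :
    ∃ (V : Subgroup G) (_ : V.Normal) (_ : IsMulCommutative V), V ≠ ⊥ ∧ V ≤ W ∧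
      (∀ v ∈ V, v ^ 2 = 1) ∧ ∀ v ∈ V, ∀ a ∈ W, a * v = v * a := by
  haveI : Fact (Nat.Prime 2) := ⟨Nat.prime_two⟩
  let V : Subgroup G :=
    { carrier := {z | z ∈ W ∧ (∀ w ∈ W, w * z = z * w) ∧ z * z = 1}
      one_mem' := ⟨W.one_mem, fun w _ => by simp, one_mul 1⟩
      mul_mem' := fun {a b} ha hb => ⟨W.mul_mem ha.1 hb.1,
        fun w hw => by rw [← mul_assoc, ha.2.1 w hw, mul_assoc, hb.2.1 w hw, ← mul_assoc], by
        rw [mul_assoc, ← mul_assoc b a b, ha.2.1 b hb.1, mul_assoc a b b, hb.2.2, mul_one, ha.2.2]⟩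
      inv_mem' := fun {a} ha => ⟨W.inv_mem ha.1, fun w hw => by
        have e : a⁻¹ = a := inv_eq_of_mul_eq_one_right ha.2.2
        rw [e]; exact ha.2.1 w hw, by rw [← mul_inv_rev, ha.2.2, inv_one]⟩ }
  refine ⟨V, ⟨fun a ha g => ⟨‹W.Normal›.conj_mem a ha.1 g, fun w hw => ?_, ?_⟩⟩,
    ⟨⟨fun a b => Subtype.ext (b.2.2.1 a a.2.1)⟩⟩, ?_, fun v hv => hv.1,
    fun v hv => by rw [sq]; exact hv.2.2,
    fun v hv a ha => hv.2.1 a ha⟩
  · have h := ha.2.1 (g⁻¹ * w * g) (by simpa using ‹W.Normal›.conj_mem w hw g⁻¹)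
    calc w * (g * a * g⁻¹) = g * ((g⁻¹ * w * g) * a) * g⁻¹ := by group
      _ = g * (a * (g⁻¹ * w * g)) * g⁻¹ := by rw [h]
      _ = g * a * g⁻¹ * w := by group
  · rw [show g * a * g⁻¹ * (g * a * g⁻¹) = g * (a * a) * g⁻¹ by group, ha.2.2]; group
  · haveI : Nontrivial W := (Subgroup.nontrivial_iff_ne_bot W).mpr hW1
    haveI := hW.center_nontrivial
    obtain ⟨z, hz⟩ := exists_prime_orderOf_dvd_card' 2
      ((hW.to_subgroup (Subgroup.center W)).card_eq_or_dvd.resolve_left Finite.one_lt_card.ne')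
    have hz2 : z * z = 1 := by rw [← sq, ← hz, pow_orderOf_eq_one]
    intro hbot
    have hzV : ((z : W) : G) ∈ V := ⟨(z : W).2, fun w hw =>
      congrArg Subtype.val (Subgroup.mem_center_iff.mp z.2 ⟨w, hw⟩),
      congrArg (fun u : Subgroup.center W => ((u : W) : G)) hz2⟩
    rw [hbot, Subgroup.mem_bot] at hzV
    have : z = 1 := Subtype.ext (Subtype.ext hzV)
    rw [this, orderOf_one] at hz
    omega

end CfsgLib.ThreeOrd
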