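import Mathlib
import Cfsg.Agent.Lib.ThreeOrd.Defs

/-!
# Element orders when no prime divides three of them
-/

set_option autoImplicit false

namespace CfsgLib.ThreeOrd

variable {G : Type*} [Group G]

theorem exists_orderOf_of_dvd [Finite G] (g : G) {d : ℕ} (hd : d ∣ orderOf g) :
    ∃ h : G, orderOf h = d := by
  obtain ⟨k, hk⟩ := hd
  have hk0 : k ≠ 0 := by
    rintro rfl
    rw [mul_zero] at hk
    exact (orderOf_pos g).ne' hk
  refine ⟨g ^ k, ?_⟩
  rw [orderOf_pow_of_dvd hk0 (hk ▸ dvd_mul_left k d), hk,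
    Nat.mul_div_cancel _ (Nat.pos_of_ne_zero hk0)]

theorem Prop3.eq_or_eq (hG : Prop3 G) {p : ℕ} (hp : p.Prime) {a b : G} (hab : orderOf a ≠ orderOf b)
    (ha : p ∣ orderOf a) (hb : p ∣ orderOf b) (c : G) (hc : p ∣ orderOf c) :
    orderOf c = orderOf a ∨ orderOf c = orderOf b := by
  by_contra h
  push Not at h
  exact hG p hp a b c hab h.2.symm h.1.symm ⟨ha, hb, hc⟩

theorem Prop3.orderOf_ne_eight [Finite G] (hG : Prop3 G) (g : G) : orderOf g ≠ 8 := by
  intro h8
  obtain ⟨a, ha⟩ := exists_orderOf_of_dvd g (show 2 ∣ orderOf g by rw [h8]; norm_num)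
  obtain ⟨b, hb⟩ := exists_orderOf_of_dvd g (show 4 ∣ orderOf g by rw [h8]; norm_num)
  rcases hG.eq_or_eq Nat.prime_two (a := a) (b := b) (by omega) (by rw [ha]) (by rw [hb]; norm_num) g
      (by rw [h8]; norm_num) with h | h <;> omega

/-- Either every element of even order has order two or four, or a single odd prime `r` occurs
with two, and then the orders divisible by two or by `r` are known. -/
theorem Prop3.split [Finite G] (hG : Prop3 G) :
    (∀ g : G, 2 ∣ orderOf g → orderOf g = 2 ∨ orderOf g = 4) ∨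
    ∃ r : ℕ, r.Prime ∧ r ≠ 2 ∧ (∀ g : G, 2 ∣ orderOf g → orderOf g = 2 ∨ orderOf g = 2 * r) ∧
      (∀ g : G, r ∣ orderOf g → orderOf g = r ∨ orderOf g = 2 * r) ∧
      ∃ g : G, orderOf g = 2 * r := by
  by_cases hall : ∀ g : G, 2 ∣ orderOf g → orderOf g = 2 ∨ orderOf g = 4
  · exact Or.inl hall
  push Not at hall
  obtain ⟨g, hg2, hgn2, hgn4⟩ := hall
  right
  obtain ⟨r, hr, hr2, hrd⟩ : ∃ r : ℕ, r.Prime ∧ r ≠ 2 ∧ r ∣ orderOf g := by
    by_contra hno
    push Not at hno
    have h := Nat.eq_prime_pow_of_unique_prime_dvd (orderOf_pos g).ne'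
      (p := 2) fun {d} hd hdvd => by
        by_contra h2
        exact hno d hd h2 hdvd
    set k := (orderOf g).primeFactorsList.length
    rcases k with _ | _ | _ | k
    · rw [h] at hg2; norm_num at hg2
    · exact hgn2 (by rw [h]; norm_num)
    · exact hgn4 (by rw [h]; norm_num)
    · obtain ⟨e, he⟩ := exists_orderOf_of_dvd g (show 8 ∣ orderOf g by
        rw [h]; exact ⟨2 ^ k, by ring⟩)
      exact hG.orderOf_ne_eight e he
  have hcop : Nat.Coprime 2 r := (Nat.coprime_primes Nat.prime_two hr).mpr (Ne.symm hr2)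
  obtain ⟨e, he⟩ := exists_orderOf_of_dvd g (hcop.mul_dvd_of_dvd_of_dvd hg2 hrd)
  obtain ⟨a, ha⟩ := exists_orderOf_of_dvd e (show 2 ∣ orderOf e by rw [he]; exact dvd_mul_right _ _)
  obtain ⟨b, hb⟩ := exists_orderOf_of_dvd e (show r ∣ orderOf e by rw [he]; exact dvd_mul_left _ _)
  have hr3 := hr.two_le
  refine ⟨r, hr, hr2, fun x hx => ?_, fun x hx => ?_, e, he⟩
  · rw [← he, ← ha]
    exact hG.eq_or_eq Nat.prime_two (by omega) (by rw [ha]) (by rw [he]; exact dvd_mul_right _ _) x hx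
  · rw [← he, ← hb]
    exact hG.eq_or_eq hr (by omega) (by rw [hb]) (by rw [he]; exact dvd_mul_left _ _) x hx

end CfsgLib.ThreeOrd
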