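import Cfsg.Agent.Lib.CIT.TISylow
import Cfsg.Agent.Lib.ThreeOrd.Models
import Cfsg.Agent.Lib.ThreeOrd.Norm
import Cfsg.Agent.Lib.ThreeOrd.Orders

/-!
# Socles that leave no room for a normal 2-subgroup
-/

set_option autoImplicit false
set_option linter.style.haveILetI false

namespace CfsgLib.ThreeOrd

open scoped IsMulCommutative
open CfsgLib.CIT

variable {G : Type*} [Group G] [Finite G]

theorem exists_moving (hC : IsCIT G) (W : Subgroup G) [W.Normal] (hW : IsPGroup 2 W)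
    (V : Subgroup G) (hV1 : V ≠ ⊥) (hV2 : ∀ v ∈ V, v ^ 2 = 1) {k : G ⧸ W} (hk : k ≠ 1)
    (hodd : Odd (orderOf k)) : ∃ g : G, QuotientGroup.mk' W g = k ∧ ∃ v ∈ V, g * v ≠ v * g := by
  haveI : Fact (Nat.Prime 2) := ⟨Nat.prime_two⟩
  obtain ⟨g, rfl⟩ := QuotientGroup.mk'_surjective W k
  refine ⟨g, rfl, ?_⟩
  haveI : Nontrivial V := (Subgroup.nontrivial_iff_ne_bot V).mpr hV1
  obtain ⟨⟨v, hv⟩, hne⟩ := exists_ne (1 : V)
  have hv1 : v ≠ 1 := fun h => hne (Subtype.ext h)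
  refine ⟨v, hv, fun hc => hk ?_⟩
  obtain ⟨i, hi⟩ := IsPGroup.iff_card.mp hW
  have hmem : g ^ orderOf (QuotientGroup.mk' W g) ∈ W :=
    (QuotientGroup.eq_one_iff _).mp (by
      show QuotientGroup.mk' W (g ^ orderOf (QuotientGroup.mk' W g)) = 1
      rw [map_pow, pow_orderOf_eq_one])
  have hord : orderOf (g ^ 2 ^ i) ∣ orderOf (QuotientGroup.mk' W g) := by
    refine orderOf_dvd_of_pow_eq_one ?_
    rw [← pow_mul, mul_comm, pow_mul, ← hi]
    exact congrArg Subtype.val (pow_card_eq_one' (x := (⟨_, hmem⟩ : W)))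
  have h1 := eq_one_of_commute_invol hC (orderOf_eq_prime (hV2 v hv) hv1)
    ((show Commute v g from hc.symm).pow_right (2 ^ i)) (hodd.of_dvd_nat hord)
  have h2 : QuotientGroup.mk' W g ^ 2 ^ i = 1 := by rw [← map_pow, h1, map_one]
  have h3 : orderOf (QuotientGroup.mk' W g) ∣ 1 := by
    have hcop : Nat.Coprime (orderOf (QuotientGroup.mk' W g)) (2 ^ i) :=
      (Nat.coprime_two_right.mpr hodd).pow_right i
    rw [← hcop.gcd_eq_one]
    exact Nat.dvd_gcd dvd_rfl (orderOf_dvd_of_pow_eq_one h2)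
  rw [Nat.dvd_one, orderOf_eq_one_iff] at h3
  exact h3

/-- An element of order four acting fixed-point-freely on an abelian group of odd order excludes
normal 2-subgroups. -/
theorem eq_bot_of_fourFpf (hC : IsCIT G) (h3 : Prop3 G) (W : Subgroup G) [W.Normal]
    (hW : IsPGroup 2 W) (T : Subgroup (G ⧸ W)) (hF : FourFpf T) : W = ⊥ := by
  haveI : Fact (Nat.Prime 2) := ⟨Nat.prime_two⟩
  by_contra hW1
  obtain ⟨V, hVn, hVc, hV1, hVW, hV2, hVcen⟩ := exists_module W hW hW1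
  obtain ⟨K, a, hK1, hKodd, -, ha, hKa, hfix⟩ := hF
  set π := QuotientGroup.mk' W with hπ
  haveI : Nontrivial K := (Subgroup.nontrivial_iff_ne_bot K).mpr hK1
  obtain ⟨⟨k, hk⟩, hkne⟩ := exists_ne (1 : K)
  have hk1 : ((k : T) : G ⧸ W) ≠ 1 := fun h => hkne (Subtype.ext (Subtype.ext h))
  obtain ⟨e, he, hmove⟩ := exists_moving hC W hW V hV1 hV2 hk1 (by
    rw [Subgroup.orderOf_coe]; exact odd_orderOf_of_mem hKodd hk)
  have ha4 : a ^ 4 = 1 := by rw [← ha, pow_orderOf_eq_one]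
  obtain ⟨g, hg⟩ := QuotientGroup.mk'_surjective W (a : G ⧸ W)
  obtain ⟨v, hv, hne⟩ := exists_mul_pow_ne W V hVcen hV2 (K.map T.subtype) (x := (a : G ⧸ W))
    (s := 4) (by norm_num) (by
      rintro _ ⟨l, hl, rfl⟩
      exact ⟨_, hKa l hl, rfl⟩)
    (by
      rintro i hi0 hi4 _ ⟨l, hl, rfl⟩ hc
      have hc' : Commute (a ^ i) l := Subtype.ext hc
      have h2 : Commute (a ^ 2) l := by
        interval_cases i
        · rw [pow_one] at hc'; exact hc'.pow_left 2
        · exact hc'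
        · have := hc'.pow_left 2
          rwa [← pow_mul, show 3 * 2 = 4 + 2 from rfl, pow_add, ha4, one_mul] at this
      rw [hfix l hl h2, map_one])
    (by
      rw [Subgroup.card_map_of_injective T.subtype_injective]
      exact Nat.coprime_two_right.mpr hKodd)
    ⟨e, by rw [he]; exact Subgroup.mem_map_of_mem T.subtype hk, hmove⟩ hg
  have h8 : ∀ w : G, π w = (a : G ⧸ W) → w ^ 4 = 1 := by
    intro w hw
    obtain ⟨i, hi⟩ := IsPGroup.iff_card.mp hW
    have hmem : w ^ 4 ∈ W := (QuotientGroup.eq_one_iff _).mp (by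
      show π (w ^ 4) = 1
      rw [map_pow, hw, ← Subgroup.coe_pow, ha4, Subgroup.coe_one])
    have hd : orderOf w ∣ 2 ^ (2 + i) := orderOf_dvd_of_pow_eq_one (by
      rw [pow_add, pow_mul, ← hi]
      exact congrArg Subtype.val (pow_card_eq_one' (x := (⟨_, hmem⟩ : W))))
    obtain ⟨j, -, hj⟩ := (Nat.dvd_prime_pow Nat.prime_two).mp hd
    refine orderOf_dvd_iff_pow_eq_one.mp ?_
    rw [hj]
    rcases Nat.lt_or_ge j 3 with h | h
    · exact Nat.pow_dvd_pow 2 (show j ≤ 2 by omega)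
    · obtain ⟨z, hz⟩ := exists_orderOf_of_dvd w (show 8 ∣ orderOf w by
        rw [hj]; exact Nat.pow_dvd_pow 2 h)
      exact absurd hz (h3.orderOf_ne_eight z)
  refine hne ?_
  rw [h8 g hg, h8 (v * g) ?_]
  show π (v * g) = _
  rw [map_mul, show π v = 1 from (QuotientGroup.eq_one_iff v).mpr (hVW hv), one_mul, hg]

/-- A Frobenius subgroup of order `21` excludes normal 2-subgroups. -/
theorem eq_bot_of_sevenThree (hC : IsCIT G) (W : Subgroup G) [W.Normal] (hW : IsPGroup 2 W)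
    (T : Subgroup (G ⧸ W)) (hT : SevenThree T) : W = ⊥ := by
  haveI : Fact (Nat.Prime 2) := ⟨Nat.prime_two⟩
  by_contra hW1
  obtain ⟨V, hVn, hVc, hV1, hVW, hV2, hVcen⟩ := exists_module W hW hW1
  obtain ⟨x, y, hx, hy, hyx⟩ := hT
  set π := QuotientGroup.mk' W with hπ
  obtain ⟨i, hi⟩ := IsPGroup.iff_card.mp hW
  set X : G ⧸ W := (x : G ⧸ W) with hX
  set Y : G ⧸ W := (y : G ⧸ W) with hY
  have hXo : orderOf X = 7 := by rw [hX, Subgroup.orderOf_coe, hx]
  have hYo : orderOf Y = 3 := by rw [hY, Subgroup.orderOf_coe, hy]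
  have hYX : Y * X * Y⁻¹ = X ^ 2 := congrArg Subtype.val hyx
  obtain ⟨e, he, hmove⟩ := exists_moving hC W hW V hV1 hV2 (k := X)
    (fun h => by rw [h, orderOf_one] at hXo; omega) (by rw [hXo]; decide)
  obtain ⟨g₀, hg₀⟩ := QuotientGroup.mk'_surjective W Y
  set g := g₀ ^ 2 ^ i with hgdef
  have hg : π g = Y ^ 2 ^ i := by rw [hgdef, map_pow, hg₀]
  have hg3 : g ^ 3 = 1 := by
    have hmem : g₀ ^ 3 ∈ W := (QuotientGroup.eq_one_iff _).mp (by
      show π (g₀ ^ 3) = 1
      rw [map_pow, hg₀, ← hYo, pow_orderOf_eq_one])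
    rw [hgdef, ← pow_mul, mul_comm, pow_mul, ← hi]
    exact congrArg Subtype.val (pow_card_eq_one' (x := (⟨_, hmem⟩ : W)))
  have hmap : (Subgroup.zpowers X).map (MulAut.conj Y).toMonoidHom = Subgroup.zpowers X := by
    rw [MonoidHom.map_zpowers]
    refine le_antisymm ?_ ?_ <;> rw [Subgroup.zpowers_le]
    · show Y * X * Y⁻¹ ∈ _
      rw [hYX]
      exact pow_mem (Subgroup.mem_zpowers X) 2
    · show X ∈ Subgroup.zpowers (Y * X * Y⁻¹)
      rw [hYX]
      refine ⟨4, ?_⟩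
      show (X ^ 2) ^ (4 : ℤ) = X
      rw [zpow_ofNat, ← pow_mul, show 2 * 4 = 7 + 1 from rfl, pow_succ,
        show X ^ 7 = 1 by rw [← hXo, pow_orderOf_eq_one], one_mul]
  have hnorm : ∀ n : ℕ, ∀ k ∈ Subgroup.zpowers X, Y ^ n * k * (Y ^ n)⁻¹ ∈ Subgroup.zpowers X := by
    intro n
    induction n with
    | zero => intro k hk; simpa using hk
    | succ n ih =>
      intro k hk
      have h1 : Y * k * Y⁻¹ ∈ Subgroup.zpowers X := hmap ▸ ⟨k, hk, rfl⟩
      have := ih _ h1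
      rwa [show Y ^ n * (Y * k * Y⁻¹) * (Y ^ n)⁻¹ = Y ^ (n + 1) * k * (Y ^ (n + 1))⁻¹ by
        rw [pow_succ]; group] at this
  obtain ⟨v, hv, hne⟩ := exists_mul_pow_ne W V hVcen hV2 (Subgroup.zpowers X) (x := Y ^ 2 ^ i)
    (s := 3) (by norm_num) (hnorm _)
    (by
      intro j hj0 hj3 k hk hc
      by_contra hk1
      have h3 : (3 : ℕ).Prime := Nat.prime_three
      have hcopY : Nat.Coprime (2 ^ i * j) (orderOf Y) := by
        rw [hYo]
        exact Nat.Coprime.mul_left ((by decide : Nat.Coprime 2 3).pow_left i)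
          (h3.coprime_iff_not_dvd.mpr (Nat.not_dvd_of_pos_of_lt hj0 hj3)).symm
      obtain ⟨m, hm⟩ := exists_pow_eq_self_of_coprime hcopY
      have hcY : Commute Y k := by
        have := (show Commute ((Y ^ 2 ^ i) ^ j) k from hc).pow_left m
        rwa [← pow_mul, ← pow_mul, ← mul_assoc, pow_mul, hm] at this
      haveI : Fact (Nat.Prime 7) := ⟨by norm_num⟩
      have hcard : Nat.card (Subgroup.zpowers X) = 7 := by rw [Nat.card_zpowers, hXo]
      have hle : Subgroup.zpowers k = Subgroup.zpowers X :=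
        Subgroup.eq_of_le_of_card_ge (Subgroup.zpowers_le.mpr hk) (by
          rw [hcard, Nat.card_zpowers]
          have hd : orderOf k ∣ 7 := hcard ▸ Subgroup.orderOf_dvd_natCard _ hk
          rcases (Nat.Prime.eq_one_or_self_of_dvd Fact.out _ hd) with h | h
          · exact absurd (orderOf_eq_one_iff.mp h) hk1
          · rw [h])
      obtain ⟨n, hn⟩ := Subgroup.mem_zpowers_iff.mp (hle.ge (Subgroup.mem_zpowers X))
      have hYX' : Commute Y X := hn ▸ hcY.zpow_right n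
      rw [hYX'.eq, mul_inv_cancel_right, pow_two] at hYX
      have := mul_left_cancel (hYX.symm.trans (mul_one X).symm)
      rw [this, orderOf_one] at hXo
      omega)
    (by rw [Nat.card_zpowers, hXo]; decide)
    ⟨e, by rw [he]; exact Subgroup.mem_zpowers X, hmove⟩ hg
  rw [hg3, coe_mul_pow V ⟨v, hv⟩ g 3, hg3, mul_one] at hne
  set u : G := ((∏ n ∈ Finset.range 3, MulAut.conjNormal (g ^ n) (⟨v, hv⟩ : V) : V) : G) with hu
  have hvg : (v * g) ^ 3 = u := by
    have := coe_mul_pow V ⟨v, hv⟩ g 3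
    rw [hg3, mul_one] at this
    exact this
  have huV : u ∈ V := SetLike.coe_mem _
  have huo : orderOf u = 2 := orderOf_eq_prime (hV2 u huV) hne
  have h6 : ((v * g) ^ 2) ^ 3 = 1 := by
    rw [← pow_mul, mul_comm, pow_mul, hvg, hV2 u huV]
  have hh := eq_one_of_commute_invol hC huo (h := (v * g) ^ 2)
    (hvg ▸ Commute.pow_pow_self _ 3 2)
    ((by decide : Odd 3).of_dvd_nat (orderOf_dvd_of_pow_eq_one h6))
  have hYdvd : orderOf Y ∣ 2 ^ i * 2 := by
    refine orderOf_dvd_of_pow_eq_one ?_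
    have := congrArg π hh
    rwa [map_pow, map_mul, show π v = 1 from (QuotientGroup.eq_one_iff v).mpr (hVW hv), one_mul, hg,
      map_one, ← pow_mul] at this
  rw [hYo, ← pow_succ] at hYdvd
  exact absurd (Nat.prime_three.dvd_of_dvd_pow hYdvd) (by norm_num)

end CfsgLib.ThreeOrd
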