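import Cfsg.Agent.Lib.CITApp.Socle
import Cfsg.Agent.Lib.CIT.CutTwo
import Cfsg.Agent.Lib.CITFilter.Main
import Cfsg.Agent.Lib.ThreeOrd.AutTwo
import Cfsg.Agent.Lib.ThreeOrd.Orders

/-!
# Embedding into the automorphism group of the socle
-/

set_option autoImplicit false
set_option linter.style.haveILetI false

namespace CfsgLib.ThreeOrd

open Matrix CfsgLib.CIT

/-- A normal subgroup `T ≅ PSL₂(F)` with trivial centraliser is everything when no prime divides
three element orders, unless outer elements are possible. -/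
theorem eq_top_of_psl_two {X : Type*} [Group X] [Finite X] (h3 : Prop3 X) (T : Subgroup X)
    [T.Normal] (hcent : Subgroup.centralizer (T : Set X) = ⊥) {F : Type*} [Field F] [Fintype F]
    (e : T ≃* ProjectiveSpecialLinearGroup (Fin 2) F) (hF : 4 ≤ Fintype.card F)
    (hq : (2 : F) = 0 ∨ Fintype.card F = 5 ∨ Fintype.card F = 7 ∨ Fintype.card F = 9 ∨
      ∀ x : X, orderOf x ≠ 4) : T = ⊤ := by
  let f : X →* MulAut (AutPSL.PSLg 2 F) := (MulAut.congr e).toMonoidHom.comp MulAut.conjNormal
  have hfapp : ∀ (g : X) (t : T), f g (e t) = e (MulAut.conjNormal g t) := fun g t => by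
    show e (MulAut.conjNormal g (e.symm (e t))) = _
    rw [MulEquiv.symm_apply_apply]
  have hinj : Function.Injective f := by
    rw [← MonoidHom.ker_eq_bot_iff, eq_bot_iff, ← hcent]
    intro g hg
    rw [Subgroup.mem_centralizer_iff]
    intro t ht
    have h1 := hfapp g ⟨t, ht⟩
    rw [MonoidHom.mem_ker.mp hg, MulAut.one_apply] at h1
    have h2 := congrArg Subtype.val (e.injective h1)
    rw [MulAut.conjNormal_apply] at h2
    exact (mul_inv_eq_iff_eq_mul.mp h2.symm).symm
  have hinner : ∀ t : T, f t = MulAut.conj (e t) := fun t => by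
    refine MulEquiv.ext fun p => ?_
    obtain ⟨s, rfl⟩ := e.surjective p
    rw [hfapp, MulAut.conj_apply, ← map_inv, ← map_mul, ← map_mul]
    congr 1
  have hX := eq_inn_of_prop3 hF f.range ?_ ?_ ?_
  · rw [Subgroup.eq_top_iff']
    intro g
    obtain ⟨p, hp⟩ := hX.le ⟨g, rfl⟩
    obtain ⟨t, rfl⟩ := e.surjective p
    rw [← hinner] at hp
    exact hinj hp ▸ t.2
  · rintro _ ⟨p, rfl⟩
    obtain ⟨t, rfl⟩ := e.surjective p
    exact ⟨t, hinner t⟩
  · exact h3.of_surjective f.rangeRestrict f.rangeRestrict_surjective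
  · rcases hq with h | h | h | h | h
    · exact Or.inl h
    · exact Or.inr (Or.inl h)
    · exact Or.inr (Or.inr (Or.inl h))
    · exact Or.inr (Or.inr (Or.inr (Or.inl h)))
    · refine Or.inr (Or.inr (Or.inr (Or.inr ?_)))
      rintro _ ⟨g, rfl⟩
      rw [orderOf_injective f hinj]
      exact h g

/-- The socle of a CIT group without normal 2-subgroup has trivial centraliser. -/
theorem centralizer_eq_bot {X : Type*} [Group X] [Finite X] (hC : IsCIT X)
    (h2 : Cfsg.pCore 2 X = ⊥) (T : Subgroup X) [T.Normal] [IsSimpleGroup T]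
    (hab : ∃ a b : T, a * b ≠ b * a) : Subgroup.centralizer (T : Set X) = ⊥ := by
  haveI : Fact (Nat.Prime 2) := ⟨Nat.prime_two⟩
  obtain ⟨s, hs⟩ := exists_prime_orderOf_dvd_card' 2 (two_dvd_card hab)
  rw [eq_bot_iff, ← h2]
  refine CfsgLib.Solvable.le_pCore inferInstance ?_
  refine (hC (s : X) (by rw [Subgroup.orderOf_coe, hs])).to_le ?_
  exact fun g hg => Subgroup.mem_centralizer_singleton_iff.mpr
    (Subgroup.mem_centralizer_iff.mp hg s s.2).symm

end CfsgLib.ThreeOrd
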