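import Cfsg.Agent.S0348
import Cfsg.Agent.Lib.TwoR.CITList
import Cfsg.Agent.Lib.ThreeOrd.CoreTrivial
import Cfsg.Agent.Lib.ThreeOrd.EqTop
import Cfsg.Agent.Lib.ThreeOrd.Glue

/-!
# Groups without elements of order `2r`
-/

set_option autoImplicit false
set_option linter.style.haveILetI false

namespace CfsgLib.ThreeOrd

open Matrix CfsgLib.CIT

universe u

theorem SevenThree.of_equiv {G H : Type*} [Group G] [Group H] (e : G ≃* H) (h : SevenThree G) :
    SevenThree H := by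
  obtain ⟨x, y, hx, hy, hxy⟩ := h
  exact ⟨e x, e y, by rw [e.orderOf_eq, hx], by rw [e.orderOf_eq, hy],
    by rw [← map_inv, ← map_mul, ← map_mul, hxy, map_pow]⟩

theorem FourFpf.of_equiv {G H : Type*} [Group G] [Group H] (e : G ≃* H) (h : FourFpf G) :
    FourFpf H := by
  obtain ⟨K, a, hK1, hodd, hcomm, ha, hn, hfix⟩ := h
  refine ⟨K.map e.toMonoidHom, e a, ?_, ?_, ?_, by rw [e.orderOf_eq, ha], ?_, ?_⟩
  · rwa [Ne, Subgroup.map_eq_bot_iff_of_injective _ e.injective]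
  · rwa [Subgroup.card_map_of_injective e.injective]
  · rintro _ ⟨k, hk, rfl⟩ _ ⟨l, hl, rfl⟩
    rw [← map_mul, ← map_mul, hcomm k hk l hl]
  · rintro _ ⟨k, hk, rfl⟩
    exact ⟨_, hn k hk, by simp⟩
  · rintro _ ⟨k, hk, rfl⟩ hc
    rw [hfix k hk (e.injective (by simpa using hc)), map_one]

/-- The odd `q` of the list of simple CIT groups above five are seven, nine or `±1` modulo eight. -/
theorem not_three_five_mod_eight {q : ℕ} (h5 : 5 < q)
    (h : q = 9 ∨ (∃ n : ℕ, q = 2 ^ n) ∨ (q.Prime ∧ ∃ k : ℕ, q = 2 ^ k + 1 ∨ q + 1 = 2 ^ k)) :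
    ¬ (q % 8 = 3 ∨ q % 8 = 5) := by
  rcases h with rfl | ⟨n, rfl⟩ | ⟨-, k, hk⟩
  · norm_num
  · rcases Nat.lt_or_ge n 3 with h | h
    · have := Nat.pow_le_pow_right (show 1 ≤ 2 by norm_num) (show n ≤ 2 by omega)
      omega
    · obtain ⟨m, rfl⟩ := Nat.exists_eq_add_of_le h
      rw [pow_add]; omega
  · rcases Nat.lt_or_ge k 3 with h | h
    · have := Nat.pow_le_pow_right (show 1 ≤ 2 by norm_num) (show k ≤ 2 by omega)
      omega
    · obtain ⟨m, rfl⟩ := Nat.exists_eq_add_of_le h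
      rw [pow_add] at hk
      omega

/-- The conclusion when every element of even order is a 2-element. -/
theorem conclusion_of_isCIT {G : Type u} [Group G] [Finite G] (hns : ¬ Group.IsSolvable G)
    (h3 : Prop3 G) (hC : IsCIT G) :
    (∃ (F : Type) (_ : Field F) (_ : Fintype F), CharP F 2 ∧ 4 ≤ Fintype.card F ∧
        (Fintype.card F + 1).primeFactorsList.length ≤ 2 ∧
        (Fintype.card F - 1).primeFactorsList.length ≤ 2 ∧
        Nonempty (G ⧸ Cfsg.pCore 2 G ≃* ProjectiveSpecialLinearGroup (Fin 2) F)) ∨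
    (∃ (F : Type) (_ : Field F) (_ : Fintype F), 5 < Fintype.card F ∧
        (Fintype.card F % 8 = 3 ∨ Fintype.card F % 8 = 5) ∧
        ((Fintype.card F + 1) / 2).primeFactorsList.length ≤ 2 ∧
        ((Fintype.card F - 1) / 2).primeFactorsList.length ≤ 2 ∧
        Nonempty (G ≃* ProjectiveSpecialLinearGroup (Fin 2) F)) ∨
    (∃ (F : Type) (_ : Field F) (_ : Fintype F), (Fintype.card F = 7 ∨ Fintype.card F = 9) ∧
        Nonempty (G ≃* ProjectiveSpecialLinearGroup (Fin 2) F)) ∨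
    (∃ (F : Type) (_ : Field F) (_ : Fintype F), Fintype.card F = 4 ∧
        Nonempty (G ≃* ProjectiveSpecialLinearGroup (Fin 3) F)) ∨
    (∃ n : ℕ, 1 ≤ n ∧ IsSimpleGroup G ∧
        Nat.card G = (2 ^ (2 * n + 1)) ^ 2 * ((2 ^ (2 * n + 1)) ^ 2 + 1) * (2 ^ (2 * n + 1) - 1) ∧
        (2 ^ (2 * n + 1) - 1).primeFactorsList.length ≤ 2 ∧
        (2 ^ (2 * n + 1) - 2 ^ (n + 1) + 1).primeFactorsList.length ≤ 2 ∧
        (2 ^ (2 * n + 1) + 2 ^ (n + 1) + 1).primeFactorsList.length ≤ 2) := by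
  haveI : Fact (Nat.Prime 2) := ⟨Nat.prime_two⟩
  have hW : IsPGroup 2 (Cfsg.pCore 2 G) := CfsgLib.Solvable.pCore_isPGroup 2 G
  obtain ⟨T, hTn, hTs, hab, -, hpq, hCX, -⟩ := CfsgLib.CITApp.exists_socle_classified hC hns
    fun T hs hab hCT => by haveI := hs; exact Cfsg.Agent.S0348.result hab hCT
  haveI := hTn
  haveI := hTs
  have h3X : Prop3 (G ⧸ Cfsg.pCore 2 G) :=
    h3.of_surjective (QuotientGroup.mk' _) (QuotientGroup.mk'_surjective _)
  have h3T : Prop3 T := h3X.subgroup T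
  have hcent := centralizer_eq_bot hCX (CfsgLib.Solvable.pCore_quotient_eq_bot _ rfl) T hab
  have hCT : IsCIT T := hCX.subgroup T
  -- when the core is trivial and the socle is everything
  have hiso : Cfsg.pCore 2 G = ⊥ → T = ⊤ → Nonempty (G ≃* T) := fun hb ht =>
    ⟨((QuotientGroup.quotientBot (G := G)).symm.trans
      (QuotientGroup.quotientMulEquivOfEq hb.symm)).trans
      (Subgroup.topEquiv.symm.trans (MulEquiv.subgroupCongr ht.symm))⟩
  rcases CfsgLib.TwoR.candidate_of_isCIT hab hCT with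
    ⟨F, _, _, ⟨e⟩⟩ | ⟨F, _, _, hF, ⟨e⟩⟩ | ⟨F, _, _, m, hS, ⟨e⟩⟩
  · rcases CfsgLib.CITFilter.psl_noThree h3T (CfsgLib.CITFilter.four_le_of_psl hab e) e with
      ⟨F, _, _, hchar, h4, h1, h2, ⟨e⟩⟩ | ⟨F, _, _, h5, hmod, -, -, he⟩ | ⟨F, _, _, hF, ⟨e⟩⟩
    · have hT := eq_top_of_psl_two h3X T hcent e h4 (Or.inl CharTwo.two_eq_zero)
      exact Or.inl ⟨F, _, _, hchar, h4, h1, h2,
        ⟨(Subgroup.topEquiv.symm.trans (MulEquiv.subgroupCongr hT.symm)).trans e⟩⟩
    · exact absurd hmod (not_three_five_mod_eight h5 (CfsgLib.CIT.psl_two_card hCT F he))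
    · have hT := eq_top_of_psl_two h3X T hcent e (by rcases hF with h | h <;> omega)
        (hF.elim (fun h => Or.inr (Or.inr (Or.inl h))) fun h => Or.inr (Or.inr (Or.inr (Or.inl h))))
      have hb : Cfsg.pCore 2 G = ⊥ := by
        rcases hF with h | h
        · exact eq_bot_of_sevenThree hC _ hW T ((sevenThree_psl_two h).of_equiv e.symm)
        · exact eq_bot_of_fourFpf hC h3 _ hW T ((fourFpf_psl_two h).of_equiv e.symm)
      obtain ⟨eG⟩ := hiso hb hT
      exact Or.inr (Or.inr (Or.inl ⟨F, _, _, hF, ⟨eG.trans e⟩⟩))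
  · obtain ⟨h73, hsq⟩ := sevenThree_psl_three (F := F) hF
    obtain ⟨x, y, hx, hy, hxy⟩ := h73.of_equiv e.symm
    have hb := eq_bot_of_sevenThree hC _ hW T ⟨x, y, hx, hy, hxy⟩
    have hT : T = ⊤ := eq_top_of_pair hCX hpq (x := (x : G ⧸ Cfsg.pCore 2 G)) (y := (y : G ⧸ Cfsg.pCore 2 G))
      (r := 7) (s := 3) (by norm_num) (by norm_num) Nat.prime_three (by norm_num) x.2 y.2
      (by rw [Subgroup.orderOf_coe, hx]) (by rw [Subgroup.orderOf_coe, hy])
      (by rwa [Nat.card_congr e.toEquiv])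
      (by
        have h := congrArg Subtype.val hxy
        simp only [Subgroup.coe_mul, InvMemClass.coe_inv, Subgroup.coe_pow] at h
        rw [h]; exact pow_mem (Subgroup.mem_zpowers _) 2)
      (fun hc => by
        have hc' : Commute x y := Subtype.ext hc
        rw [hc'.symm.eq, mul_inv_cancel_right, pow_two] at hxy
        have := mul_left_cancel (hxy.symm.trans (mul_one x).symm)
        rw [this, orderOf_one] at hx
        omega)
    obtain ⟨eG⟩ := hiso hb hT
    exact Or.inr (Or.inr (Or.inr (Or.inl ⟨F, _, _, hF, ⟨eG.trans e⟩⟩)))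
  · obtain ⟨hF4, -, r, x, i, hr, hr4, hx, hi, hcyc⟩ := sz_facts hS
    have hb := eq_bot_of_fourFpf hC h3 _ hW T (hF4.of_equiv e.symm)
    have hT : T = ⊤ := eq_top_of_inverted hCX hpq
      (x := ((e.symm x : T) : G ⧸ Cfsg.pCore 2 G)) (i := ((e.symm i : T) : G ⧸ Cfsg.pCore 2 G))
      hr hr4 (e.symm x).2 (by rw [Subgroup.orderOf_coe, MulEquiv.orderOf_eq, hx]) (e.symm i).2
      (congrArg Subtype.val (show e.symm i * e.symm x * (e.symm i)⁻¹ = (e.symm x)⁻¹ by
        rw [← map_inv, ← map_mul, ← map_mul, hi, map_inv]))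
      fun R => by
        haveI : Fact r.Prime := ⟨hr⟩
        let R' : Sylow r (Cfsg.Sz F m) := R.mapSurjective (f := e.toMonoidHom) e.surjective
        haveI : IsCyclic ↥((R : Subgroup T).map e.toMonoidHom) := hcyc R'
        exact isCyclic_of_injective ((R : Subgroup T).equivMapOfInjective e.toMonoidHom e.injective).toMonoidHom
          ((R : Subgroup T).equivMapOfInjective e.toMonoidHom e.injective).injective
    obtain ⟨eG⟩ := hiso hb hT
    exact Or.inr (Or.inr (Or.inr (Or.inr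
      (CfsgLib.CITFilter.sz_noThree h3 hS (eG.trans e)))))

end CfsgLib.ThreeOrd
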