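import Cfsg.Agent.S0205
import Cfsg.Agent.Lib.Char.Burnside
import Cfsg.Agent.Lib.Solvable.Core
import Cfsg.Agent.Lib.ThreeOrd.Norm

/-!
# Non-solvable groups with even element orders `2`, `2r` and `r`-orders `r`, `2r`

Such a group has trivial solvable radical, and a simple normal subgroup with trivial centraliser.
-/

set_option autoImplicit false
set_option linter.style.haveILetI false

namespace CfsgLib.ThreeOrd

open scoped IsMulCommutative commutatorElement

universe u

/-- The even orders are `2`, `2r`, the orders divisible by `r` are `r`, `2r`. -/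
structure TwoR (G : Type*) [Group G] (r : ℕ) : Prop where
  prime : r.Prime
  ne_two : r ≠ 2
  two : ∀ g : G, 2 ∣ orderOf g → orderOf g = 2 ∨ orderOf g = 2 * r
  rdiv : ∀ g : G, r ∣ orderOf g → orderOf g = r ∨ orderOf g = 2 * r

namespace TwoR

variable {G : Type u} [Group G] [Finite G] {r : ℕ} (h : TwoR G r)
include h

theorem subgroup (H : Subgroup G) : TwoR H r :=
  ⟨h.prime, h.ne_two, fun g => by rw [← Subgroup.orderOf_coe]; exact h.two g,
    fun g => by rw [← Subgroup.orderOf_coe]; exact h.rdiv g⟩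

omit [Finite G] in
theorem sq_eq_one {g : G} {k : ℕ} (hg : orderOf g = 2 ^ k) : g * g = 1 := by
  rw [← sq, ← orderOf_dvd_iff_pow_eq_one]
  rcases Nat.eq_zero_or_pos k with rfl | hk
  · rw [hg]; norm_num
  rcases h.two g (hg ▸ dvd_pow_self 2 hk.ne') with h2 | h2
  · rw [h2]
  · exact absurd ((Nat.prime_dvd_prime_iff_eq h.prime Nat.prime_two).mp
      (h.prime.dvd_of_dvd_pow (hg ▸ h2.symm ▸ dvd_mul_left r 2))) h.ne_two

omit [Finite G] in
theorem mul_self_of_isPGroup {S : Subgroup G} (hS : IsPGroup 2 S) {a : G} (ha : a ∈ S) :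
    a * a = 1 := by
  haveI : Fact (Nat.Prime 2) := ⟨Nat.prime_two⟩
  obtain ⟨k, hk⟩ := IsPGroup.iff_orderOf.mp hS ⟨a, ha⟩
  rw [Subgroup.orderOf_mk] at hk
  exact h.sq_eq_one hk

omit [Finite G] in
theorem comm_of_isPGroup {S : Subgroup G} (hS : IsPGroup 2 S) {a b : G} (ha : a ∈ S) (hb : b ∈ S) :
    a * b = b * a := by
  have hi : ∀ {c : G}, c ∈ S → c⁻¹ = c := fun hc =>
    inv_eq_of_mul_eq_one_right (h.mul_self_of_isPGroup hS hc)
  calc a * b = (a * b)⁻¹ := (hi (mul_mem ha hb)).symm
    _ = b⁻¹ * a⁻¹ := mul_inv_rev a b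
    _ = b * a := by rw [hi ha, hi hb]

/-- An involution commutes only with elements of order `r` among those of odd prime order. -/
theorem eq_of_commute {t x : G} {s : ℕ} (hs : s.Prime) (hs2 : s ≠ 2) (ht : orderOf t = 2)
    (hx : orderOf x = s) (hc : Commute t x) : s = r := by
  have hcop : (orderOf t).Coprime (orderOf x) := by
    rw [ht, hx]; exact (Nat.coprime_primes Nat.prime_two hs).mpr (Ne.symm hs2)
  have ho := hc.orderOf_mul_eq_mul_orderOf_of_coprime hcop
  rw [ht, hx] at ho
  rcases h.two _ (ho ▸ dvd_mul_right 2 s) with h2 | h2 <;> rw [ho] at h2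
  · have := hs.two_le; omega
  · exact Nat.eq_of_mul_eq_mul_left two_pos h2

omit h in
theorem exists_prime_ne (hns : ¬ Group.IsSolvable G) (r : ℕ) (hr : r.Prime) :
    ∃ s : ℕ, s.Prime ∧ s ≠ 2 ∧ s ≠ r ∧ s ∣ Nat.card G := by
  by_contra hno
  push Not at hno
  refine hns (CfsgLib.Char.isSolvable_of_two_primes 2 r Nat.prime_two hr _ G rfl fun s hs hd => ?_)
  by_contra hne
  push Not at hne
  exact hno s hs hne.1 hne.2 hd

/-- No involution centralises a non-solvable subgroup. -/
theorem false_of_centralizes {t : G} (ht : orderOf t = 2) (C : Subgroup G)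
    (hC : ¬ Group.IsSolvable C) (hc : ∀ c ∈ C, Commute t c) : False := by
  obtain ⟨s, hs, hs2, hsr, hd⟩ := exists_prime_ne hC r h.prime
  haveI := Fact.mk hs
  obtain ⟨⟨x, hx⟩, ho⟩ := exists_prime_orderOf_dvd_card' s hd
  rw [Subgroup.orderOf_mk] at ho
  exact hsr (h.eq_of_commute hs hs2 ht ho (hc x hx))

/-- There is no nontrivial normal 2-subgroup. -/
theorem two_normal_eq_bot (hns : ¬ Group.IsSolvable G) (W : Subgroup G) [W.Normal]
    (hW : IsPGroup 2 W) : W = ⊥ := by
  haveI : Fact (Nat.Prime 2) := ⟨Nat.prime_two⟩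
  by_contra hW1
  obtain ⟨⟨t, htW⟩, ht⟩ : ∃ t : W, orderOf t = 2 :=
    exists_prime_orderOf_dvd_card' 2
      (hW.card_eq_or_dvd.resolve_left fun h1 => hW1 (Subgroup.card_eq_one.mp h1))
  rw [Subgroup.orderOf_mk] at ht
  set C := Subgroup.centralizer (W : Set G) with hC
  have hodd : Odd (Nat.card (G ⧸ C)) := by
    rw [← Nat.not_even_iff_odd]
    intro he
    obtain ⟨q, hq⟩ := exists_prime_orderOf_dvd_card' (G := G ⧸ C) 2 (even_iff_two_dvd.mp he)
    obtain ⟨g, rfl⟩ := QuotientGroup.mk'_surjective C q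
    have hdvd : 2 ∣ orderOf g := hq ▸ orderOf_map_dvd (QuotientGroup.mk' C) g
    obtain ⟨a, ha, hodd⟩ : ∃ a, orderOf g = 2 * a ∧ Odd a := by
      rcases h.two g hdvd with h2 | h2
      · exact ⟨1, by rw [h2], odd_one⟩
      · exact ⟨r, h2, h.prime.odd_of_ne_two h.ne_two⟩
    have hga : orderOf (g ^ a) = 2 := by
      rw [orderOf_pow_of_dvd hodd.pos.ne' (ha ▸ dvd_mul_left a 2), ha,
        Nat.mul_div_cancel _ hodd.pos]
    obtain ⟨P, hP⟩ := (IsPGroup.of_card (G := Subgroup.zpowers (g ^ a)) (n := 1)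
      (by rw [Nat.card_zpowers, hga, pow_one])).exists_le_sylow
    obtain ⟨S, hS⟩ := hW.exists_le_sylow
    have hWP : W ≤ (P : Subgroup G) := by
      obtain ⟨c, hc⟩ := MulAction.exists_smul_eq G S P
      intro w hw
      rw [← hc, Sylow.coe_subgroup_smul]
      refine Subgroup.mem_pointwise_smul_iff_inv_smul_mem.mpr (hS ?_)
      rw [← map_inv, MulAut.smul_def, MulAut.conj_apply, inv_inv]
      simpa using ‹W.Normal›.conj_mem w hw c⁻¹
    have hmem : g ^ a ∈ C := by
      rw [hC, Subgroup.mem_centralizer_iff]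
      exact fun w hw => h.comm_of_isPGroup P.2 (hWP hw) (hP (Subgroup.mem_zpowers _))
    have h1 : QuotientGroup.mk' C g ^ a = 1 := by
      rw [← map_pow]; exact (QuotientGroup.eq_one_iff _).mpr hmem
    have := orderOf_dvd_of_pow_eq_one h1
    rw [hq] at this
    exact Nat.not_even_iff_odd.mpr hodd (even_iff_two_dvd.mpr this)
  refine h.false_of_centralizes ht C (fun hs => hns ?_) fun c hc => ?_
  · haveI := Cfsg.Agent.S0205.result hodd
    refine Group.isSolvable_of_ker_le_range C.subtype (QuotientGroup.mk' C) ?_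
    rw [QuotientGroup.ker_mk', Subgroup.range_subtype]
  · exact Subgroup.mem_centralizer_iff.mp hc t htW

/-- Solvable normal subgroups have odd order. -/
theorem odd_of_solvable (hns : ¬ Group.IsSolvable G) (M : Subgroup G) [hM : M.Normal]
    (hsol : Group.IsSolvable M) : Odd (Nat.card M) := by
  haveI : Fact (Nat.Prime 2) := ⟨Nat.prime_two⟩
  by_contra hodd
  obtain ⟨M, ⟨hM, hsol, heven⟩, hmin⟩ := Set.exists_min_image
    {M : Subgroup G | M.Normal ∧ Group.IsSolvable M ∧ ¬ Odd (Nat.card M)}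
    (fun M => Nat.card M) (Set.toFinite _) ⟨M, hM, hsol, hodd⟩
  haveI := hM
  haveI := hsol
  set D := ⁅M, M⁆ with hD
  have hDle : D ≤ M := Subgroup.commutator_le_self M
  have hDodd : Odd (Nat.card D) := by
    by_contra hDe
    have hne : D ≠ M := fun he => by
      have hM1 : M ≠ ⊥ := fun hb => heven (by rw [hb, Subgroup.card_bot]; exact odd_one)
      have h1 : commutator M = ⊤ := Subgroup.map_injective M.subtype_injective (by
        rw [Subgroup.map_subtype_commutator, ← hD, he, ← MonoidHom.range_eq_map,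
          Subgroup.range_subtype])
      haveI : Nontrivial M := (Subgroup.nontrivial_iff_ne_bot M).mpr hM1
      exact (Group.IsSolvable.commutator_lt_top_of_nontrivial M).ne h1
    have hsolD : Group.IsSolvable D :=
      Group.isSolvable_of_isSolvable_injective (Subgroup.inclusion_injective hDle)
    exact hne (Subgroup.eq_of_le_of_card_ge hDle (hmin D ⟨inferInstance, hsolD, hDe⟩))
  -- `M` is an odd normal subgroup extended by a 2-group
  obtain ⟨S⟩ : Nonempty (Sylow 2 M) := inferInstance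
  set P := (S : Subgroup M).map M.subtype with hP
  let M1 : Subgroup G := D ⊔ P
  have hM1n : M1.Normal := by
    constructor
    intro m hm g
    have hfr := Sylow.normalizer_sup_eq_top (N := M) S
    have hg : g ∈ Subgroup.normalizer (P : Set G) ⊔ M := hfr ▸ Subgroup.mem_top g
    obtain ⟨n, hn, a, ha, rfl⟩ := Subgroup.mem_sup_of_normal_right.mp hg
    have hnorm : ∀ b ∈ Subgroup.normalizer (P : Set G), ∀ z ∈ M1, b * z * b⁻¹ ∈ M1 := by
      intro b hb z hz
      have hle : M1.map (MulAut.conj b).toMonoidHom ≤ M1 := by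
        rw [Subgroup.map_sup]
        refine sup_le_sup ?_ ?_
        · rintro _ ⟨z, hz, rfl⟩; exact (inferInstance : D.Normal).conj_mem z hz b
        · rintro _ ⟨z, hz, rfl⟩; exact (Subgroup.mem_normalizer_iff.mp hb z).mp hz
      exact hle ⟨z, hz, rfl⟩
    have hPM : P ≤ M := Subgroup.map_subtype_le _
    have hmM : m ∈ M := (sup_le hDle hPM : M1 ≤ M) hm
    have ha' : a * m * a⁻¹ ∈ M1 := by
      have hc : ⁅a, m⁆ ∈ D := Subgroup.commutator_mem_commutator ha hmM
      have := mul_mem ((le_sup_left : D ≤ M1) hc) hm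
      rwa [commutatorElement_def, inv_mul_cancel_right] at this
    have := hnorm n hn _ ha'
    rwa [show n * (a * m * a⁻¹) * n⁻¹ = n * a * m * (n * a)⁻¹ by group] at this
  have hPcard : ¬ Odd (Nat.card P) := by
    rw [hP, Subgroup.card_map_of_injective M.subtype_injective]
    intro ho
    obtain ⟨k, hk⟩ := IsPGroup.iff_card.mp S.2
    have : (2 : ℕ) ∣ Nat.card S := Sylow.dvd_card_of_dvd_card S
      (even_iff_two_dvd.mp (Nat.not_odd_iff_even.mp heven))
    exact Nat.not_even_iff_odd.mpr ho (even_iff_two_dvd.mpr this)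
  have hP1 : P ≠ ⊥ := fun hb => hPcard (by rw [hb, Subgroup.card_bot]; exact odd_one)
  -- Frattini: the normaliser of `P` is not solvable
  have hM1sol : Group.IsSolvable M1 := Group.isSolvable_of_isSolvable_injective
    (Subgroup.inclusion_injective (sup_le hDle (Subgroup.map_subtype_le _)))
  have hM1 : M1 = M := Subgroup.eq_of_le_of_card_ge (sup_le hDle (Subgroup.map_subtype_le _))
    (hmin M1 ⟨hM1n, hM1sol, fun ho => hPcard
      (ho.of_dvd_nat (Subgroup.card_dvd_of_le le_sup_right))⟩)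
  set N := Subgroup.normalizer (P : Set G) with hN
  have hND : N ⊔ D = ⊤ := by
    refine top_le_iff.mp ((Sylow.normalizer_sup_eq_top (N := M) S).ge.trans (sup_le le_sup_left ?_))
    rw [← hM1]
    exact sup_le le_sup_right (le_sup_of_le_left Subgroup.le_normalizer)
  have hNns : ¬ Group.IsSolvable N := by
    intro hs
    haveI := hs
    haveI := Cfsg.Agent.S0205.result hDodd
    have hsurj : Function.Surjective ((QuotientGroup.mk' D).comp N.subtype) := by
      intro q
      obtain ⟨g, rfl⟩ := QuotientGroup.mk'_surjective D q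
      obtain ⟨n, hn, d, hd, rfl⟩ := Subgroup.mem_sup_of_normal_right.mp (hND ▸ Subgroup.mem_top g)
      refine ⟨⟨n, hn⟩, ?_⟩
      rw [map_mul, MonoidHom.comp_apply,
        show QuotientGroup.mk' D d = 1 from (QuotientGroup.eq_one_iff d).mpr hd, mul_one]
      rfl
    haveI := Group.isSolvable_of_surjective hsurj
    refine hns (Group.isSolvable_of_ker_le_range D.subtype (QuotientGroup.mk' D) ?_)
    rw [QuotientGroup.ker_mk', Subgroup.range_subtype]
  haveI : (P.subgroupOf N).Normal := by rw [hN]; exact Subgroup.normal_in_normalizer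
  have := (h.subgroup N).two_normal_eq_bot hNns (P.subgroupOf N) (by
    exact (S.2.map M.subtype).comap_of_injective N.subtype N.subtype_injective)
  rw [Subgroup.subgroupOf_eq_bot, disjoint_comm] at this
  exact hP1 (le_bot_iff.mp (this (Subgroup.le_normalizer.trans_eq hN.symm) le_rfl))

/-- An element of odd prime order acts without fixed points on a 2-subgroup. -/
theorem exists_fpf (hns : ¬ Group.IsSolvable G) : ∃ (K : Subgroup G) (x : G) (p : ℕ),
    p.Prime ∧ p ≠ 2 ∧ orderOf x = p ∧ K ≠ ⊥ ∧ (∀ k ∈ K, k * k = 1) ∧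
      (∀ k ∈ K, x * k * x⁻¹ ∈ K) ∧ ∀ k ∈ K, x * k = k * x → k = 1 := by
  classical
  haveI : Fact (Nat.Prime 2) := ⟨Nat.prime_two⟩
  obtain ⟨S⟩ : Nonempty (Sylow 2 G) := inferInstance
  have hcomm : ∀ {a b : G}, a ∈ (S : Subgroup G) → b ∈ (S : Subgroup G) → a * b = b * a :=
    fun ha hb => h.comm_of_isPGroup S.2 ha hb
  have hnle : ¬ Subgroup.normalizer ((S : Subgroup G) : Set G) ≤
      Subgroup.centralizer ((S : Subgroup G) : Set G) := by
    intro hle
    have hc := MonoidHom.ker_transferSylow_isComplement' S hle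
    haveI := Cfsg.Agent.S0205.result (Nat.not_even_iff_odd.mp fun he =>
      MonoidHom.not_dvd_card_ker_transferSylow S hle (even_iff_two_dvd.mp he))
    haveI : IsMulCommutative (S : Subgroup G) :=
      ⟨⟨fun a b => Subtype.ext (hcomm a.2 b.2)⟩⟩
    refine hns (Group.isSolvable_of_ker_le_range (MonoidHom.transferSylow S hle).ker.subtype
      (MonoidHom.transferSylow S hle) ?_)
    rw [Subgroup.range_subtype]
  obtain ⟨y, hy, hyC⟩ := SetLike.not_le_iff_exists.mp hnle
  rw [Subgroup.mem_centralizer_iff] at hyC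
  push Not at hyC
  obtain ⟨s, hs, hys⟩ := hyC
  -- an element of odd order normalising `S` without centralising it
  obtain ⟨x₀, hx₀N, hx₀odd, hx₀s⟩ : ∃ x₀ ∈ Subgroup.normalizer ((S : Subgroup G) : Set G),
      Odd (orderOf x₀) ∧ s * x₀ ≠ x₀ * s := by
    rcases Nat.even_or_odd (orderOf y) with he | ho
    swap
    · exact ⟨y, hy, ho, hys⟩
    have hinv : ∀ {t : G}, t ∈ Subgroup.normalizer ((S : Subgroup G) : Set G) → orderOf t = 2 →
        s * t = t * s := by
      intro t htN ht
      refine hcomm hs ?_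
      have hle : Subgroup.zpowers t ≤ Subgroup.normalizer ((S : Subgroup G) : Set G) :=
        Subgroup.zpowers_le.mpr htN
      have hp : IsPGroup 2 (Subgroup.zpowers t) :=
        IsPGroup.of_card (n := 1) (by rw [Nat.card_zpowers, ht, pow_one])
      exact (S.3 (hp.to_sup_of_normal_right' S.2 hle) le_sup_right).le
        (le_sup_left (b := (S : Subgroup G)) (Subgroup.mem_zpowers t))
    rcases h.two y (even_iff_two_dvd.mp he) with h2 | h2
    · exact absurd (hinv hy h2) hys
    · have hr := h.prime.pos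
      obtain ⟨j, hj⟩ := h.prime.odd_of_ne_two h.ne_two
      refine ⟨y ^ 2, pow_mem hy 2, ?_, fun hc => hys ?_⟩
      · rw [orderOf_pow_of_dvd two_ne_zero (h2 ▸ dvd_mul_right 2 r), h2,
          Nat.mul_div_cancel_left _ two_pos]
        exact h.prime.odd_of_ne_two h.ne_two
      · have ht : orderOf (y ^ r) = 2 := by
          rw [orderOf_pow_of_dvd hr.ne' (h2 ▸ dvd_mul_left r 2), h2, Nat.mul_div_cancel _ hr]
        have h1 : Commute s (y ^ r * ((y ^ 2) ^ j)⁻¹) :=
          (show Commute s (y ^ r) from hinv (pow_mem hy r) ht).mul_right ((show Commute s (y ^ 2) from hc).pow_right j).inv_right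
        rwa [← pow_mul, hj, pow_succ', mul_inv_cancel_right] at h1
  have hn1 : orderOf x₀ ≠ 1 := fun h1 => hx₀s (by rw [orderOf_eq_one_iff.mp h1, mul_one, one_mul])
  obtain ⟨p, hp, hpd⟩ := Nat.exists_prime_and_dvd hn1
  have hp2 : p ≠ 2 := by
    rintro rfl
    exact Nat.not_even_iff_odd.mpr hx₀odd (even_iff_two_dvd.mpr hpd)
  obtain ⟨m, hm⟩ := hpd
  set x := x₀ ^ m with hx
  have hxo : orderOf x = p := by
    have hm0 : m ≠ 0 := fun h0 => (orderOf_pos x₀).ne' (by rw [hm, h0, mul_zero])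
    rw [hx, orderOf_pow_of_dvd hm0 (hm ▸ dvd_mul_left m p), hm,
      Nat.mul_div_cancel _ (Nat.pos_of_ne_zero hm0)]
  have hxs : s * x ≠ x * s := by
    intro hc
    have hs1 : s ≠ 1 := fun h1 => hys (by rw [h1, one_mul, mul_one])
    have hso : orderOf s = 2 := orderOf_eq_prime
      (by rw [sq]; exact h.mul_self_of_isPGroup S.2 hs) hs1
    have hpr := h.eq_of_commute hp hp2 hso hxo hc
    rcases h.rdiv x₀ (by rw [← hpr, hm]; exact dvd_mul_right p m) with h1 | h1
    · have : m = 1 := by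
        rw [hm, ← hpr] at h1
        exact (Nat.mul_eq_left hp.ne_zero).mp h1
      rw [hx, this, pow_one] at hc
      exact hx₀s hc
    · exact Nat.not_even_iff_odd.mpr hx₀odd (h1 ▸ even_two_mul r)
  -- a minimal invariant subgroup that is moved
  obtain ⟨K, ⟨hKS, hKx, hKm⟩, hmin⟩ := Set.exists_min_image
    {K : Subgroup G | K ≤ (S : Subgroup G) ∧ (∀ k ∈ K, x * k * x⁻¹ ∈ K) ∧ ∃ k ∈ K, x * k ≠ k * x}
    (fun K => Nat.card K) (Set.toFinite _)
    ⟨S, le_rfl, fun k hk => (Subgroup.mem_normalizer_iff.mp (pow_mem hx₀N m) k).mp hk, s, hs,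
      fun hc => hxs hc.symm⟩
  have hsq : ∀ k ∈ K, k * k = 1 := fun k hk => h.mul_self_of_isPGroup S.2 (hKS hk)
  let f : K →* G :=
    { toFun := fun k => x * k * x⁻¹ * k
      map_one' := by simp
      map_mul' := fun a b => by
        have hab : (x * (b : G) * x⁻¹) * a = a * (x * b * x⁻¹) :=
          hcomm (hKS (hKx b b.2)) (hKS a.2)
        calc x * ((a * b : K) : G) * x⁻¹ * ((a * b : K) : G)
            = x * a * x⁻¹ * ((x * (b : G) * x⁻¹) * a) * b := by rw [Subgroup.coe_mul]; group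
          _ = x * a * x⁻¹ * a * (x * b * x⁻¹ * b) := by rw [hab]; group }
  have hfK : f.range ≤ K := by
    rintro _ ⟨k, rfl⟩
    exact mul_mem (hKx k k.2) k.2
  have hfx : ∀ d ∈ f.range, x * d * x⁻¹ ∈ f.range := by
    rintro _ ⟨k, rfl⟩
    refine ⟨⟨_, hKx k k.2⟩, ?_⟩
    show x * (x * k * x⁻¹) * x⁻¹ * (x * k * x⁻¹) = x * (x * k * x⁻¹ * k) * x⁻¹
    group
  have hmoved : ∃ d ∈ f.range, x * d ≠ d * x := by
    by_contra hall
    push Not at hall
    obtain ⟨k, hk, hxk⟩ := hKm
    set d := f ⟨k, hk⟩ with hd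
    have hdx : Commute x d := hall d ⟨_, rfl⟩
    have hdd : d * d = 1 := hsq d (hfK ⟨_, rfl⟩)
    have hstep : ∀ i : ℕ, x ^ i * k * (x ^ i)⁻¹ = d ^ i * k := by
      intro i
      induction i with
      | zero => simp
      | succ i ih =>
        calc x ^ (i + 1) * k * (x ^ (i + 1))⁻¹ = x * (x ^ i * k * (x ^ i)⁻¹) * x⁻¹ := by
              rw [pow_succ']; group
          _ = x * d ^ i * x⁻¹ * (x * k * x⁻¹ * k) * k⁻¹ := by rw [ih]; group
          _ = d ^ i * d * k⁻¹ := by
              rw [(hdx.pow_right i).eq, mul_inv_cancel_right]; rfl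
          _ = d ^ (i + 1) * k := by
              rw [← pow_succ, inv_eq_of_mul_eq_one_right (hsq k hk)]
    have hdp := hstep p
    rw [← hxo, pow_orderOf_eq_one, hxo, one_mul, inv_one, mul_one] at hdp
    obtain ⟨j, hj⟩ := hp.odd_of_ne_two hp2
    rw [hj, pow_succ, pow_mul, sq, hdd, one_pow, one_mul] at hdp
    have hd1 : x * k * x⁻¹ * k = 1 := mul_eq_right.mp hdp.symm
    refine hxk (mul_inv_eq_iff_eq_mul.mp ?_)
    rw [← mul_one (x * k * x⁻¹), ← hsq k hk, ← mul_assoc, hd1, one_mul]
  have hfeq : f.range = K := Subgroup.eq_of_le_of_card_ge hfK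
    (hmin _ ⟨hfK.trans hKS, hfx, hmoved⟩)
  have hfinj : Function.Injective f := by
    refine (Function.Injective.of_comp_iff' (f := fun k : K => f k) (g := id) Function.bijective_id).mp ?_
    have hs : Function.Surjective (fun k : K => (⟨f k, hfK ⟨k, rfl⟩⟩ : K)) := fun a => by
      obtain ⟨k, hk⟩ := hfeq.ge a.2
      exact ⟨k, Subtype.ext hk⟩
    exact fun a b hab => (Finite.injective_iff_surjective.mpr hs) (Subtype.ext hab)
  refine ⟨K, x, p, hp, hp2, hxo, ?_, hsq, hKx, fun k hk hc => ?_⟩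
  · rintro rfl
    obtain ⟨k, hk, hne⟩ := hKm
    exact hne (by rw [Subgroup.mem_bot.mp hk, mul_one, one_mul])
  · refine congrArg Subtype.val (hfinj (a₁ := ⟨k, hk⟩) (a₂ := 1) ?_)
    rw [map_one]
    show x * k * x⁻¹ * k = 1
    rw [hc, mul_inv_cancel_right, hsq k hk]

/-- There is no nontrivial normal subgroup of odd order. -/
theorem odd_normal_eq_bot (hns : ¬ Group.IsSolvable G) (N : Subgroup G) [hN : N.Normal]
    (hodd : Odd (Nat.card N)) : N = ⊥ := by
  by_contra hN1
  obtain ⟨A, ⟨hA, hA1, hAodd⟩, hmin⟩ := Set.exists_min_image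
    {A : Subgroup G | A.Normal ∧ A ≠ ⊥ ∧ Odd (Nat.card A)} (fun A => Nat.card A) (Set.toFinite _)
    ⟨N, hN, hN1, hodd⟩
  haveI := hA
  haveI := Cfsg.Agent.S0205.result hAodd
  have hmin' : ∀ B : Subgroup G, B.Normal → B ≤ A → B ≠ ⊥ → B = A := fun B hB hle h1 =>
    Subgroup.eq_of_le_of_card_ge hle
      (hmin B ⟨hB, h1, hAodd.of_dvd_nat (Subgroup.card_dvd_of_le hle)⟩)
  have hcomm : ⁅A, A⁆ = ⊥ := by
    by_contra hne
    have he : ⁅A, A⁆ = A := hmin' _ inferInstance (Subgroup.commutator_le_self A) hne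
    have h1 : commutator A = ⊤ := Subgroup.map_injective A.subtype_injective (by
      rw [Subgroup.map_subtype_commutator, he, ← MonoidHom.range_eq_map, Subgroup.range_subtype])
    haveI : Nontrivial A := (Subgroup.nontrivial_iff_ne_bot A).mpr hA1
    exact (Group.IsSolvable.commutator_lt_top_of_nontrivial A).ne h1
  have hAab : ∀ a ∈ A, ∀ b ∈ A, a * b = b * a := fun a ha b hb =>
    Subgroup.mem_centralizer_iff.mp
      (Subgroup.commutator_eq_bot_iff_le_centralizer.mp hcomm hb) a ha
  haveI : IsMulCommutative A := ⟨⟨fun a b => Subtype.ext (hAab a a.2 b b.2)⟩⟩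
  obtain ⟨ℓ, hℓ, hℓd⟩ := Nat.exists_prime_and_dvd (n := Nat.card A)
    fun h1 => hA1 (Subgroup.card_eq_one.mp h1)
  haveI := Fact.mk hℓ
  have hℓ2 : ℓ ≠ 2 := fun h2 =>
    Nat.not_even_iff_odd.mpr hAodd (even_iff_two_dvd.mpr (h2 ▸ hℓd))
  have hexp : ∀ a ∈ A, a ^ ℓ = 1 := by
    let B : Subgroup G :=
      { carrier := {a | a ∈ A ∧ a ^ ℓ = 1}
        one_mem' := ⟨one_mem A, one_pow ℓ⟩
        mul_mem' := fun {a b} ha hb => ⟨mul_mem ha.1 hb.1, by
          rw [(show Commute a b from hAab a ha.1 b hb.1).mul_pow, ha.2, hb.2, one_mul]⟩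
        inv_mem' := fun {a} ha => ⟨inv_mem ha.1, by rw [inv_pow, ha.2, inv_one]⟩ }
    obtain ⟨⟨z, hz⟩, hzo⟩ := exists_prime_orderOf_dvd_card' ℓ hℓd
    rw [Subgroup.orderOf_mk] at hzo
    have hB : B = A := hmin' B ⟨fun a ha g => ⟨hA.conj_mem a ha.1 g, by
      rw [conj_pow, ha.2, mul_one, mul_inv_cancel]⟩⟩ (fun a ha => ha.1) fun hb => by
        have hzB : z ∈ B := ⟨hz, by rw [← hzo, pow_orderOf_eq_one]⟩
        rw [hb, Subgroup.mem_bot] at hzB
        rw [hzB, orderOf_one] at hzo
        exact hℓ.ne_one hzo.symm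
    exact fun a ha => (hB.ge ha).2
  have hord : ∀ a ∈ A, a ≠ 1 → orderOf a = ℓ := fun a ha ha1 =>
    orderOf_eq_prime (hexp a ha) ha1
  -- the centraliser of `A` has odd order
  have hCodd : Odd (Nat.card (Subgroup.centralizer (A : Set G))) := by
    haveI : Nontrivial A := (Subgroup.nontrivial_iff_ne_bot A).mpr hA1
    obtain ⟨⟨a, ha⟩, hne⟩ := exists_ne (1 : A)
    have ha1 : a ≠ 1 := fun h0 => hne (Subtype.ext h0)
    by_contra he
    haveI : Fact (Nat.Prime 2) := ⟨Nat.prime_two⟩
    obtain ⟨⟨t, ht⟩, hto⟩ := exists_prime_orderOf_dvd_card' 2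
      (even_iff_two_dvd.mp (Nat.not_odd_iff_even.mp he))
    rw [Subgroup.orderOf_mk] at hto
    have hℓr := h.eq_of_commute hℓ hℓ2 hto (hord a ha ha1)
      (Subgroup.mem_centralizer_iff.mp ht a ha).symm
    have hns' : ¬ Group.IsSolvable (Subgroup.centralizer (A : Set G)) :=
      fun hs => he (h.odd_of_solvable hns _ hs)
    obtain ⟨s, hs, hs2, hsr, hd⟩ := exists_prime_ne hns' r h.prime
    haveI := Fact.mk hs
    obtain ⟨⟨x, hx⟩, hxo⟩ := exists_prime_orderOf_dvd_card' s hd
    rw [Subgroup.orderOf_mk] at hxo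
    have hc : Commute a x := Subgroup.mem_centralizer_iff.mp hx a ha
    have hcop : (orderOf a).Coprime (orderOf x) := by
      rw [hord a ha ha1, hxo, hℓr]; exact (Nat.coprime_primes h.prime hs).mpr hsr.symm
    have ho := hc.orderOf_mul_eq_mul_orderOf_of_coprime hcop
    rw [hord a ha ha1, hxo, hℓr] at ho
    rcases h.rdiv _ (ho ▸ dvd_mul_right r s) with h1 | h1 <;> rw [ho] at h1
    · exact hs.ne_one ((Nat.mul_eq_left h.prime.ne_zero).mp h1)
    · exact hs2 (Nat.eq_of_mul_eq_mul_left h.prime.pos (h1.trans (mul_comm 2 r)))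
  obtain ⟨K, x, p, hp, hp2, hxo, hK1, hKsq, hKx, hKfix⟩ := h.exists_fpf hns
  haveI : Nontrivial K := (Subgroup.nontrivial_iff_ne_bot K).mpr hK1
  obtain ⟨⟨k, hk⟩, hk1'⟩ := exists_ne (1 : K)
  have hk1 : k ≠ 1 := fun h0 => hk1' (Subtype.ext h0)
  have hko : ∀ {k : G}, k ∈ K → k ≠ 1 → orderOf k = 2 := fun hk hk1 =>
    orderOf_eq_prime (by rw [sq]; exact hKsq _ hk) hk1
  -- an involution centralises part of `A`
  have hℓr : ℓ = r := by
    set k' := x * k * x⁻¹ with hk'
    have hk'1 : k' ≠ 1 := fun h0 => hk1 (conj_eq_one_iff.mp h0)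
    have hne : k' * k ≠ 1 := fun h0 => hk1 (hKfix k hk (by
      have h1 : k' = k := by
        calc k' = k' * (k * k) := by rw [hKsq k hk, mul_one]
          _ = k := by rw [← mul_assoc, h0, one_mul]
      calc x * k = k' * x := by rw [hk']; group
        _ = k * x := by rw [h1]))
    haveI : Nontrivial A := (Subgroup.nontrivial_iff_ne_bot A).mpr hA1
    obtain ⟨⟨a, ha⟩, hne'⟩ := exists_ne (1 : A)
    have ha1 : a ≠ 1 := fun h0 => hne' (Subtype.ext h0)
    by_contra hℓr
    -- every involution of `K` inverts `A`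
    have hinv : ∀ t ∈ K, t ≠ 1 → t * a * t = a⁻¹ := by
      intro t ht ht1
      have htt := hKsq t ht
      have hti : t⁻¹ = t := inv_eq_of_mul_eq_one_right htt
      have hc : t * a * t ∈ A := by simpa [hti] using hA.conj_mem a ha t
      by_contra hni
      refine hℓr (h.eq_of_commute hℓ hℓ2 (hko ht ht1)
        (hord _ (mul_mem ha hc) fun h0 => hni (inv_eq_of_mul_eq_one_right h0).symm) ?_)
      show t * (a * (t * a * t)) = a * (t * a * t) * t
      calc t * (a * (t * a * t)) = t * a * t * (a * t) := by group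
        _ = t * a * t * a * t := by group
        _ = a * (t * a * t) * t := by rw [hAab a ha _ hc]
    have hprod := mul_mem (hKx k hk) hk
    refine hℓr (h.eq_of_commute hℓ hℓ2 (hko hprod hne) (hord a ha ha1) ?_)
    have h1 : k' * k * a * (k' * k)⁻¹ = a := by
      have hki : k⁻¹ = k := inv_eq_of_mul_eq_one_right (hKsq k hk)
      have hk'i : k'⁻¹ = k' := inv_eq_of_mul_eq_one_right (hKsq k' (hKx k hk))
      calc k' * k * a * (k' * k)⁻¹ = k' * (k * a * k) * k' := by
            rw [mul_inv_rev, hki, hk'i]; group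
        _ = k' * (k' * a * k') * k' := by rw [hinv k hk hk1, hinv k' (hKx k hk) hk'1]
        _ = (k' * k') * a * (k' * k') := by group
        _ = a := by rw [hKsq k' (hKx k hk)]; group
    exact mul_inv_eq_iff_eq_mul.mp h1
  -- the norm produces an element of forbidden order
  haveI : Fact (Nat.Prime 2) := ⟨Nat.prime_two⟩
  obtain ⟨n, hn⟩ := IsPGroup.iff_card.mp
    (show IsPGroup 2 K from fun a => ⟨1, Subtype.ext (by
      rw [Subgroup.coe_pow, pow_one, sq]; exact hKsq a a.2)⟩)
  let π : G →* G ⧸ (⊥ : Subgroup G) := QuotientGroup.mk' ⊥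
  have hπ : Function.Injective π := by
    rw [← MonoidHom.ker_eq_bot_iff]; exact QuotientGroup.ker_mk' ⊥
  have hfix : ∀ i, 0 < i → i < p → ∀ q ∈ K.map π, π x ^ i * q = q * π x ^ i → q = 1 := by
    rintro i hi0 hip _ ⟨q, hq, rfl⟩ hc
    have hc' : Commute (x ^ i) q := hπ (by rw [map_mul, map_mul, map_pow]; exact hc)
    have hcop : Nat.Coprime i (orderOf x) := by
      rw [hxo]; exact (hp.coprime_iff_not_dvd.mpr (Nat.not_dvd_of_pos_of_lt hi0 hip)).symm
    obtain ⟨j, hj⟩ := exists_pow_eq_self_of_coprime hcop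
    have := hc'.pow_left j
    rw [hj] at this
    rw [hKfix q hq this, map_one]
  obtain ⟨v, hv, hne⟩ := exists_mul_pow_ne (⊥ : Subgroup G) A
    (fun v _ a ha => by rw [Subgroup.mem_bot.mp ha, one_mul, mul_one]) hexp (K.map π)
    hp.pos
    (by rintro _ ⟨q, hq, rfl⟩; exact ⟨_, hKx q hq, by rw [map_mul, map_mul, map_inv]⟩)
    hfix
    (by rw [Subgroup.card_map_of_injective hπ, hn]
        exact ((Nat.coprime_primes Nat.prime_two hℓ).mpr (Ne.symm hℓ2)).pow_left n)
    ⟨k, Subgroup.mem_map_of_mem π hk, by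
      by_contra hall
      push Not at hall
      have hkC : k ∈ Subgroup.centralizer (A : Set G) :=
        Subgroup.mem_centralizer_iff.mpr fun a ha => (hall a ha).symm
      have h2 := hko hk hk1
      have h1 := Subgroup.orderOf_dvd_natCard _ hkC
      rw [h2] at h1
      exact Nat.not_even_iff_odd.mpr hCodd (even_iff_two_dvd.mpr h1)⟩
    (g := x) rfl
  rw [← hxo, pow_orderOf_eq_one, hxo] at hne
  -- `v * x` has order `r * p`
  have hxA : (v * x) ^ p ∈ A := by
    rw [coe_mul_pow A ⟨v, hv⟩ x p, ← hxo, pow_orderOf_eq_one, mul_one]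
    exact SetLike.coe_mem _
  have hy : orderOf ((v * x) ^ p) = r := (hord _ hxA hne).trans hℓr
  have hpd : p ∣ orderOf (v * x) := by
    refine (hp.coprime_iff_not_dvd.not_left.mp ?_)
    intro hcop
    exact hne (by
      have := hcop
      have h1 : (v * x) ∈ A := by
        obtain ⟨j, hj⟩ := exists_pow_eq_self_of_coprime hcop
        rw [← hj]; exact pow_mem hxA j
      have hxA' : x ∈ A := by simpa using mul_mem (inv_mem hv) h1
      have hxk : x * k * x⁻¹ * k⁻¹ ∈ A := by
        rw [mul_assoc x k, mul_assoc x]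
        exact mul_mem hxA' (hA.conj_mem _ (inv_mem hxA') k)
      have hkK : x * k * x⁻¹ * k⁻¹ ∈ K := mul_mem (hKx k hk) (inv_mem hk)
      have h2 : x * k * x⁻¹ * k⁻¹ = 1 := by
        have hd := Subgroup.disjoint_of_coprime_natCard (H := A) (K := K) ?_
        · exact Subgroup.disjoint_def.mp hd hxk hkK
        · rw [hn]; exact ((Nat.coprime_two_right).mpr hAodd).pow_right n
      exact absurd (hKfix k hk (mul_inv_eq_iff_eq_mul.mp (mul_inv_eq_one.mp h2))) hk1)
  have horder : orderOf (v * x) = r * p := by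
    rw [orderOf_pow_of_dvd hp.ne_zero hpd] at hy
    exact (Nat.div_eq_iff_eq_mul_left hp.pos hpd).mp hy
  rcases h.rdiv _ (horder ▸ dvd_mul_right r p) with h1 | h1 <;> rw [horder] at h1
  · exact hp.ne_one ((Nat.mul_eq_left h.prime.ne_zero).mp h1)
  · exact hp2 (Nat.eq_of_mul_eq_mul_left h.prime.pos (h1.trans (mul_comm 2 r)))

/-- There is a normal non-abelian simple subgroup with trivial centraliser. -/
theorem exists_socle (hns : ¬ Group.IsSolvable G) : ∃ T : Subgroup G, T.Normal ∧ IsSimpleGroup T ∧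
    ¬ Group.IsSolvable T ∧ Subgroup.centralizer (T : Set G) = ⊥ := by
  classical
  haveI : Fact (Nat.Prime 2) := ⟨Nat.prime_two⟩
  have hsolbot : ∀ N : Subgroup G, N.Normal → Group.IsSolvable N → N = ⊥ := fun N hN hs => by
    haveI := hN
    exact h.odd_normal_eq_bot hns N (h.odd_of_solvable hns N hs)
  have htop : (⊤ : Subgroup G) ≠ ⊥ := fun ht => hns (by
    haveI : Subsingleton G := Subgroup.subsingleton_iff.mp (subsingleton_iff_bot_eq_top.mp ht.symm)
    infer_instance)
  obtain ⟨T, ⟨hTn, hT1⟩, hTmin⟩ := Set.exists_min_image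
    {T : Subgroup G | T.Normal ∧ T ≠ ⊥} (fun T => Nat.card T) (Set.toFinite _)
    ⟨⊤, inferInstance, htop⟩
  haveI := hTn
  have hTns : ¬ Group.IsSolvable T := fun hs => hT1 (hsolbot T hTn hs)
  haveI : Nontrivial T := (Subgroup.nontrivial_iff_ne_bot T).mpr hT1
  refine ⟨T, hTn, ⟨fun M hM => ?_⟩, hTns, ?_⟩
  · by_contra hcon
    push Not at hcon
    obtain ⟨M, ⟨hM, hM1, hMT⟩, hMmin⟩ := Set.exists_min_image
      {M : Subgroup T | M.Normal ∧ M ≠ ⊥ ∧ M ≠ ⊤} (fun M => Nat.card M) (Set.toFinite _)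
      ⟨M, hM, hcon.1, hcon.2⟩
    haveI := hM
    obtain ⟨x, hx⟩ : ∃ x : G, M.map (MulAut.conjNormal (H := T) x).toMonoidHom ≠ M := by
      by_contra hall
      push Not at hall
      have hn : (M.map T.subtype).Normal := by
        constructor
        rintro _ ⟨a, ha, rfl⟩ g
        exact ⟨MulAut.conjNormal g a, hall g ▸ Subgroup.mem_map_of_mem _ ha,
          MulAut.conjNormal_apply g a⟩
      have h1 := hTmin (M.map T.subtype) ⟨hn, fun hb => hM1
        ((Subgroup.map_eq_bot_iff_of_injective M T.subtype_injective).mp hb)⟩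
      rw [Subgroup.card_map_of_injective T.subtype_injective] at h1
      exact hMT (Subgroup.eq_top_of_le_card M h1)
    set φ := MulAut.conjNormal (H := T) x with hφ
    set M2 := M.map φ.toMonoidHom with hM2
    haveI hM2n : M2.Normal := hM.map _ φ.surjective
    have hdisj : Disjoint M M2 := by
      rw [disjoint_iff]
      by_contra hne'
      have hc := hMmin (M ⊓ M2) ⟨inferInstance, hne', fun ht => hMT (top_le_iff.mp (ht ▸ inf_le_left))⟩
      have h1 : M ⊓ M2 = M := Subgroup.eq_of_le_of_card_ge inf_le_left hc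
      refine hx (Subgroup.eq_of_le_of_card_ge (inf_eq_left.mp h1) ?_).symm
      exact (Subgroup.card_map_of_injective φ.injective).le
    have hMns : ¬ Group.IsSolvable M := by
      intro hs
      have hodd := (h.subgroup T).odd_of_solvable hTns M hs
      haveI : (Cfsg.pPrimeCore 2 T).Characteristic := CfsgLib.Solvable.pPrimeCore_characteristic 2 T
      have h1 := h.odd_normal_eq_bot hns ((Cfsg.pPrimeCore 2 T).map T.subtype)
        (by rw [Subgroup.card_map_of_injective T.subtype_injective]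
            exact Nat.coprime_two_right.mp (CfsgLib.Solvable.pPrimeCore_card_coprime 2 T))
      rw [Subgroup.map_eq_bot_iff_of_injective _ T.subtype_injective] at h1
      exact hM1 (le_bot_iff.mp (h1 ▸ CfsgLib.Solvable.le_pPrimeCore hM
        (Nat.coprime_two_right.mpr hodd)))
    -- an involution of `M` centralises the conjugate of `M`
    have heven : Even (Nat.card M) := Nat.not_odd_iff_even.mp fun ho =>
      hMns (Cfsg.Agent.S0205.result ho)
    obtain ⟨⟨a, ha⟩, hao⟩ := exists_prime_orderOf_dvd_card' 2 (even_iff_two_dvd.mp heven)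
    rw [Subgroup.orderOf_mk] at hao
    refine (h.subgroup T).false_of_centralizes hao M2 (fun hs => hMns ?_) fun c hc =>
      Subgroup.commute_of_normal_of_disjoint M M2 hM hM2n hdisj a c ha hc
    haveI := hs
    exact Group.isSolvable_of_isSolvable_injective
      (M.equivMapOfInjective φ.toMonoidHom φ.injective).injective
        (f := (M.equivMapOfInjective φ.toMonoidHom φ.injective).toMonoidHom)
  · by_contra hC
    rcases Nat.even_or_odd (Nat.card (Subgroup.centralizer (T : Set G))) with he | ho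
    · obtain ⟨⟨t, ht⟩, hto⟩ := exists_prime_orderOf_dvd_card' 2 (even_iff_two_dvd.mp he)
      rw [Subgroup.orderOf_mk] at hto
      exact h.false_of_centralizes hto T hTns fun c hc =>
        (Subgroup.mem_centralizer_iff.mp ht c hc).symm
    · exact hC (h.odd_normal_eq_bot hns _ ho)

end TwoR

end CfsgLib.ThreeOrd
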