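import Cfsg.Agent.Lib.ThreeOrd.CaseA
import Cfsg.Agent.Lib.ThreeOrd.TwoR

/-!
# Non-solvable groups in which no prime divides three element orders
-/

set_option autoImplicit false
set_option linter.style.haveILetI false

namespace CfsgLib.ThreeOrd

open Matrix CfsgLib.CIT

universe u

theorem unipotent_four : ∃ x : SpecialLinearGroup (Fin 3) (ZMod 2),
    x ^ 4 = 1 ∧ ((x ^ 2 : SpecialLinearGroup (Fin 3) (ZMod 2)) : Matrix (Fin 3) (Fin 3) (ZMod 2)) 0 2 = 1 :=
  ⟨⟨!![1, 1, 0; 0, 1, 1; 0, 0, 1], by decide +kernel⟩, by decide +kernel, by decide +kernel⟩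

theorem exists_order_four_psl_three {F : Type*} [Field F] [Fintype F] (hF : Fintype.card F = 4) :
    ∃ g : ProjectiveSpecialLinearGroup (Fin 3) F, orderOf g = 4 := by
  haveI := charP_of_card (F := F) (p := 2) (n := 2) Nat.prime_two two_ne_zero (by rw [hF]; norm_num)
  haveI : Fact (Nat.Prime 2) := ⟨Nat.prime_two⟩
  obtain ⟨x, hx4, hx2⟩ := unipotent_four
  let φ := Matrix.SpecialLinearGroup.map (n := Fin 3) (ZMod.castHom (dvd_refl 2) F)
  refine ⟨QuotientGroup.mk' _ (φ x), orderOf_eq_prime_pow (p := 2) (n := 1) ?_ ?_⟩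
  · intro h
    rw [pow_one, ← map_pow, ← map_pow] at h
    obtain ⟨c, -, hc⟩ := Matrix.SpecialLinearGroup.mem_center_iff.mp ((QuotientGroup.eq_one_iff _).mp h)
    have h02 := (congrFun (congrFun hc 0) 2).symm
    change ZMod.castHom (dvd_refl 2) F _ = Matrix.scalar (Fin 3) c 0 2 at h02
    rw [hx2, map_one, Matrix.scalar_apply, Matrix.diagonal_apply_ne _ (by decide)] at h02
    exact one_ne_zero h02
  · rw [← map_pow, ← map_pow, show 2 ^ (1 + 1) = 4 from rfl, hx4, map_one, map_one]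

/-- The classification, given the classification of the simple groups with even element orders
`2` and `2r`. -/
theorem conclusion {G : Type u} [Group G] [Finite G] (hns : ¬ Group.IsSolvable G) (h3 : Prop3 G)
    (hCore : ∀ (T : Type u) [Group T] [Finite T] [IsSimpleGroup T], (∃ a b : T, a * b ≠ b * a) →
      ∀ r : ℕ, r.Prime → r ≠ 2 → (∀ g : T, 2 ∣ orderOf g → orderOf g = 2 ∨ orderOf g = 2 * r) →
      (∀ g : T, r ∣ orderOf g → orderOf g = r ∨ orderOf g = 2 * r) →
      IsCIT T ∨ ∃ (F : Type) (_ : Field F) (_ : Fintype F), Odd (Fintype.card F) ∧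
        Nonempty (T ≃* ProjectiveSpecialLinearGroup (Fin 2) F)) :
    (∃ (F : Type) (_ : Field F) (_ : Fintype F), CharP F 2 ∧ 4 ≤ Fintype.card F ∧
        (Fintype.card F + 1).primeFactorsList.length ≤ 2 ∧
        (Fintype.card F - 1).primeFactorsList.length ≤ 2 ∧
        Nonempty (G ⧸ Cfsg.pCore 2 G ≃* ProjectiveSpecialLinearGroup (Fin 2) F)) ∨
    (∃ (F : Type) (_ : Field F) (_ : Fintype F), 5 < Fintype.card F ∧
        (Fintype.card F % 8 = 3 ∨ Fintype.card F % 8 = 5) ∧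
        ((Fintype.card F + 1) / 2).primeFactorsList.length ≤ 2 ∧
        ((Fintype.card F - 1) / 2).primeFactorsList.length ≤ 2 ∧
        Nonempty (G ≃* ProjectiveSpecialLinearGroup (Fin 2) F)) ∨
    (∃ (F : Type) (_ : Field F) (_ : Fintype F), (Fintype.card F = 7 ∨ Fintype.card F = 9) ∧
        Nonempty (G ≃* ProjectiveSpecialLinearGroup (Fin 2) F)) ∨
    (∃ (F : Type) (_ : Field F) (_ : Fintype F), Fintype.card F = 4 ∧
        Nonempty (G ≃* ProjectiveSpecialLinearGroup (Fin 3) F)) ∨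
    (∃ n : ℕ, 1 ≤ n ∧ IsSimpleGroup G ∧
        Nat.card G = (2 ^ (2 * n + 1)) ^ 2 * ((2 ^ (2 * n + 1)) ^ 2 + 1) * (2 ^ (2 * n + 1) - 1) ∧
        (2 ^ (2 * n + 1) - 1).primeFactorsList.length ≤ 2 ∧
        (2 ^ (2 * n + 1) - 2 ^ (n + 1) + 1).primeFactorsList.length ≤ 2 ∧
        (2 ^ (2 * n + 1) + 2 ^ (n + 1) + 1).primeFactorsList.length ≤ 2) := by
  rcases h3.split with h24 | ⟨r, hr, hr2, h2, hrd, -⟩
  · refine conclusion_of_isCIT hns h3 (CfsgLib.CITApp.isCIT_of_no_commute fun t x s hs hs2 ht hx hc => ?_)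
    have hcop : (orderOf t).Coprime (orderOf x) := by
      rw [ht, hx]; exact (Nat.coprime_primes Nat.prime_two hs).mpr (Ne.symm hs2)
    have ho := hc.orderOf_mul_eq_mul_orderOf_of_coprime hcop
    rw [ht, hx] at ho
    rcases h24 (t * x) (ho ▸ dvd_mul_right 2 s) with h | h <;> rw [ho] at h
    · have := hs.two_le; omega
    · exact hs2 (by omega)
  have hR : TwoR G r := ⟨hr, hr2, h2, hrd⟩
  obtain ⟨T, hTn, hTs, hTns, hcent⟩ := hR.exists_socle hns
  haveI := hTn
  haveI := hTs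
  have hab : ∃ a b : T, a * b ≠ b * a := by
    by_contra hall
    push Not at hall
    exact hTns (IsSimpleGroup.comm_iff_isSolvable.mp hall)
  have hRT := hR.subgroup T
  have hno4 : ∀ g : G, orderOf g ≠ 4 := by
    intro g hg
    rcases h2 g (by rw [hg]; norm_num) with h | h <;> rw [hg] at h
    · omega
    · exact hr2 (by omega)
  have hno4T : ∀ g : T, orderOf g ≠ 4 := fun g => by rw [← Subgroup.orderOf_coe]; exact hno4 g
  obtain ⟨F, _, _, ⟨e⟩⟩ : ∃ (F : Type) (_ : Field F) (_ : Fintype F),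
      Nonempty (T ≃* ProjectiveSpecialLinearGroup (Fin 2) F) := by
    rcases hCore T hab r hr hr2 hRT.two hRT.rdiv with hC | ⟨F, i1, i2, -, he⟩
    · rcases CfsgLib.TwoR.candidate_of_isCIT hab hC with h | ⟨F, _, _, hF, ⟨e⟩⟩ | ⟨F, _, _, m, hS, ⟨e⟩⟩
      · exact h
      · obtain ⟨g, hg⟩ := exists_order_four_psl_three hF
        exact absurd ((MulEquiv.orderOf_eq e.symm g).trans hg) (hno4T _)
      · obtain ⟨g, hg⟩ := CfsgLib.CITFilter.exists_order_four hS
        exact absurd ((MulEquiv.orderOf_eq e.symm g).trans (hg.trans (by norm_num))) (hno4T _)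
    · exact ⟨F, i1, i2, he⟩
  have hT := eq_top_of_psl_two h3 T hcent e (CfsgLib.CITFilter.four_le_of_psl hab e)
    (Or.inr (Or.inr (Or.inr (Or.inr hno4))))
  let eG : G ≃* T := Subgroup.topEquiv.symm.trans (MulEquiv.subgroupCongr hT.symm)
  rcases CfsgLib.CITFilter.psl_noThree h3 (CfsgLib.CITFilter.four_le_of_psl hab e) (eG.trans e) with
    ⟨F, i1, i2, hchar, h4, hp, hm, ⟨e'⟩⟩ | h | h
  · haveI : Fact (Nat.Prime 2) := ⟨Nat.prime_two⟩
    have hb : Cfsg.pCore 2 G = ⊥ :=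
      hR.two_normal_eq_bot hns _ (CfsgLib.Solvable.pCore_isPGroup 2 G)
    exact Or.inl ⟨F, i1, i2, hchar, h4, hp, hm, ⟨((QuotientGroup.quotientMulEquivOfEq hb).trans
      (QuotientGroup.quotientBot (G := G))).trans e'⟩⟩
  · exact Or.inr (Or.inl h)
  · exact Or.inr (Or.inr (Or.inl h))

end CfsgLib.ThreeOrd
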